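import Mathlib
import Cfsg.Agent.A8R.Def
import Cfsg.Agent.S3335

set_option autoImplicit false
set_option maxRecDepth 100000

namespace Cfsg.Agent.A8R
open Subgroup Equiv Equiv.Perm

universe u

def he4 : Y0 := ⟨(swap 0 1, swap 2 4), by rw [mem_Y0]; decide⟩
def he5 : Y0 := ⟨(swap 0 1, swap 1 2), by rw [mem_Y0]; decide⟩
def he6 : Y0 := ⟨(swap 0 1, swap 0 1), by rw [mem_Y0]; decide⟩

theorem hom_gen (K : Subgroup Y0) (ha : ya ∈ K) (ht : yt' ∈ K) {c : Y0} (hc : c ∈ K)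
    (h1 : c.1.2 ^ 5 = 1) (h2 : c.1.2 ≠ 1) (h3 : c.1.2.support = Finset.univ) (y : Y0) : y ∈ K := by
  have := Fact.mk Nat.prime_five
  have h4 := closure_prime_cycle_swap (σ := c.1.2) (τ := swap 3 4) (by simpa using Nat.prime_five)
    (isCycle_of_prime_order'' (by simpa using Nat.prime_five) (by simpa using orderOf_eq_prime h1 h2))
    h3 ⟨3, 4, by decide, rfl⟩
  obtain ⟨k, hk, e⟩ : y.1.2 ∈ K.map ((MonoidHom.snd _ _).comp Y0.subtype) := by
    refine (closure_le _).2 ?_ (h4.ge (mem_top _))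
    rintro _ (rfl | rfl)
    exacts [⟨c, hc, rfl⟩, ⟨yt', ht, rfl⟩]
  have h5 : (y * k⁻¹).1.2 = 1 := mul_inv_eq_one.2 e.symm
  rw [← mul_mem_cancel_right (inv_mem hk)]
  generalize y * k⁻¹ = z at h5
  obtain ⟨⟨α, β⟩, hz⟩ := z
  obtain rfl : β = 1 := h5
  have h6 : ∀ α : Perm (Fin 3), sign α * sign (1 : Perm (Fin 5)) = 1 →
      α = 1 ∨ α = ya.1.1 ∨ α = (ya * ya).1.1 := by decide
  rcases h6 α hz with rfl | rfl | rfl
  exacts [one_mem K, ha, mul_mem ha ha]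

theorem hom_aux {G : Type u} [Group G] (S : Setup G) {p : Y0} (hc : Commute (S.ψ pp4) (S.χ p))
    (a1 : p ^ 2 = 1) (a2 : (yb * p) ^ 3 = 1) (a3 : (p * yt) ^ 3 = 1) (a4 : Commute p he6)
    (a5 : (p * (ya * he6 * ya⁻¹)) ^ 2 = 1) (a6 : (yb * p * yt).1.2 ^ 5 = 1) (a7 : (yb * p * yt).1.2 ≠ 1)
    (a8 : (yb * p * yt).1.2.support = Finset.univ) :
    ∃ φ : A8 →* G, Function.Injective φ ∧ S.ψ.range ≤ φ.range ∧ S.χ.range ≤ φ.range := by
  have e6 : S.ψ he6 = S.χ he6 := by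
    rw [show S.χ he6 = S.χ (yt' * yt) from congrArg _ (by decide), map_mul, S.tt, S.tt', ← map_mul]
    exact congrArg _ (by decide)
  have e5 : S.ψ he5 = S.χ (ya * he6 * ya⁻¹) := by
    rw [map_mul, map_mul, map_inv, S.ab, ← e6, ← map_inv, ← map_mul, ← map_mul]
    exact congrArg _ (by decide)
  have P : ∀ (f : Y0 →* G) (a b : Y0) (k : ℕ), (a * b) ^ k = 1 → (f a * f b) ^ k = 1 :=
    fun f a b k h => by rw [← map_mul, ← map_pow, h, map_one]
  have Q : ∀ (f : Y0 →* G) (a : Y0) (k : ℕ), a ^ k = 1 → f a ^ k = 1 :=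
    fun f a k h => by rw [← map_pow, h, map_one]
  have c4 : (S.χ p * S.ψ he4) ^ 2 = 1 := by
    have h : Commute (S.χ p) (S.ψ he4) := by
      rw [show he4 = he6 * pp4 by decide, map_mul]
      exact Commute.mul_right (e6 ▸ a4.map S.χ) hc.symm
    rw [h.mul_pow, Q _ _ _ a1, Q _ he4 _ (by decide), mul_one]
  have hR : S3335.Rel ![S.ψ ya, S.χ p, S.ψ yt', S.ψ he4, S.ψ he5, S.ψ he6] := by
    have b1 : (S.ψ ya * S.χ p) ^ 3 = 1 := S.ba ▸ P _ _ _ _ a2
    have b2 : (S.χ p * S.ψ yt') ^ 3 = 1 := S.tt ▸ P _ _ _ _ a3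
    have b3 : (S.χ p * S.ψ he5) ^ 2 = 1 := e5 ▸ P _ _ _ _ a5
    have b4 : (S.χ p * S.ψ he6) ^ 2 = 1 := by
      rw [e6, (a4.map S.χ).mul_pow, Q _ _ _ a1, Q _ he6 _ (by decide), mul_one]
    refine ⟨fun i h => ?_, fun i h => ?_, fun i j h => ?_, fun i j h => ?_⟩
    · obtain rfl : i = 0 := Fin.ext h
      exact Q _ ya _ (by decide)
    · fin_cases i <;> first | exact absurd h (by decide) | exact Q _ p _ a1 | exact Q S.ψ _ _ (by decide)
    · fin_cases i <;> fin_cases j <;>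
        first | exact absurd h (by decide) | exact b1 | exact b2 | exact P S.ψ _ _ _ (by decide)
    · fin_cases i <;> fin_cases j <;>
        first | exact absurd h (by decide) | exact c4 | exact b3 | exact b4 | exact P S.ψ _ _ _ (by decide)
  obtain ⟨e⟩ := S3335.main 6
  let φ : A8 →* G := (PresentedGroup.toGroup hR.lift).comp e.symm.toMonoidHom
  have h1 : ∀ i, φ (e (PresentedGroup.of i)) =
      ![S.ψ ya, S.χ p, S.ψ yt', S.ψ he4, S.ψ he5, S.ψ he6] i := fun i => by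
    change PresentedGroup.toGroup hR.lift (e.symm (e _)) = _
    rw [e.symm_apply_apply, PresentedGroup.toGroup.of]
  have h2 : ∀ y, S.ψ y ∈ φ.range := hom_gen (φ.range.comap S.ψ) ⟨_, h1 0⟩ ⟨_, h1 2⟩
    (c := he6 * he5 * he4 * yt')
    (mul_mem (mul_mem (mul_mem ⟨_, h1 5⟩ ⟨_, h1 4⟩) ⟨_, h1 3⟩) ⟨_, h1 2⟩) (by decide) (by decide) (by decide)
  have h3 : ∀ y, S.χ y ∈ φ.range := hom_gen (φ.range.comap S.χ) (mem_comap.2 (S.ab ▸ h2 _))
    (mem_comap.2 (S.tt' ▸ h2 _)) (mul_mem (mul_mem (mem_comap.2 (S.ba ▸ h2 _)) ⟨_, h1 1⟩)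
      (mem_comap.2 (S.tt ▸ h2 _))) a6 a7 a8
  have := alternatingGroup.isSimpleGroup (α := Fin 8) (by simp)
  refine ⟨φ, (MonoidHom.ker_eq_bot_iff φ).1 ((φ.normal_ker.eq_bot_or_eq_top).resolve_right fun h => ?_),
    by rintro _ ⟨y, rfl⟩; exact h2 y, by rintro _ ⟨y, rfl⟩; exact h3 y⟩
  exact absurd (S.ψi (((h1 0).symm.trans (h.ge (mem_top _))).trans (map_one _).symm)) (by decide)

theorem hom (c : COM.{u}) : HOM.{u} := fun G _ _ S =>
  (c G S).elim
    (fun h => hom_aux S h.1 (by decide) (by decide) (by decide) (show _ = _ by decide) (by decide)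
      (by decide) (by decide) (by decide))
    fun h => hom_aux S h.1 (by decide) (by decide) (by decide) (show _ = _ by decide) (by decide)
      (by decide) (by decide) (by decide)

end Cfsg.Agent.A8R
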