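import Cfsg.Agent.A8R.Def

set_option autoImplicit false

namespace Cfsg.Agent.A8R
open Subgroup Equiv Equiv.Perm

universe u

theorem eh_nine {H : Type*} [Group H] [Finite H] {a b : H} (hc : Commute a b) (ha : a ^ 3 = 1)
    (hb : b ^ 3 = 1)
    (hi : Function.Injective fun x : Fin 3 × Fin 3 => a ^ (x.1 : ℕ) * b ^ (x.2 : ℕ)) :
    IsPGroup 3 (closure ({a, b} : Set H)) ∧ 9 ≤ Nat.card (closure ({a, b} : Set H)) := by
  have ma : a ∈ closure ({a, b} : Set H) := subset_closure (by simp)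
  have mb : b ∈ closure ({a, b} : Set H) := subset_closure (by simp)
  constructor
  · have key : ∀ g ∈ closure ({a, b} : Set H), ∃ m n : ℤ, g = a ^ m * b ^ n := fun g hg => by
      induction hg using closure_induction with
      | mem x hx =>
        rcases hx with rfl | rfl
        · exact ⟨1, 0, by simp⟩
        · exact ⟨0, 1, by simp⟩
      | one => exact ⟨0, 0, by simp⟩
      | mul x y _ _ h1 h2 =>
        obtain ⟨m, n, rfl⟩ := h1
        obtain ⟨m', n', rfl⟩ := h2
        refine ⟨m + m', n + n', ?_⟩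
        rw [zpow_add, zpow_add]
        exact ((hc.zpow_zpow m' n).symm).mul_mul_mul_comm _ _
      | inv x _ h1 =>
        obtain ⟨m, n, rfl⟩ := h1
        refine ⟨-m, -n, ?_⟩
        rw [mul_inv_rev, ← zpow_neg, ← zpow_neg]
        exact (hc.zpow_zpow (-m) (-n)).symm.eq
    rintro ⟨g, hg⟩
    obtain ⟨m, n, rfl⟩ := key g hg
    refine ⟨1, Subtype.ext ?_⟩
    change (a ^ m * b ^ n) ^ 3 ^ 1 = 1
    rw [pow_one, (hc.zpow_zpow m n).mul_pow, ← zpow_natCast, ← zpow_natCast, ← zpow_mul, ← zpow_mul,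
      mul_comm m, mul_comm n, zpow_mul, zpow_mul, zpow_natCast, zpow_natCast, ha, hb]
    simp
  · have := Nat.card_le_card_of_injective (fun x : Fin 3 × Fin 3 =>
      (⟨a ^ (x.1 : ℕ) * b ^ (x.2 : ℕ), mul_mem (pow_mem ma _) (pow_mem mb _)⟩ :
        closure ({a, b} : Set H))) fun x y e => hi (congrArg Subtype.val e)
    simpa using this

theorem eh_card : Nat.card A8 = 20160 := by
  rw [nat_card_alternatingGroup]; simp [Nat.factorial]

theorem eh_syl {R : Subgroup A8} (h : IsPGroup 3 R) (hc : 9 ≤ Nat.card R) :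
    ∃ Q : Sylow 3 A8, (Q : Subgroup A8) = R := by
  haveI : Fact (Nat.Prime 3) := ⟨Nat.prime_three⟩
  obtain ⟨Q, hQ⟩ := h.exists_le_sylow
  refine ⟨Q, (eq_of_le_of_card_ge hQ ?_).symm⟩
  obtain ⟨k, hk⟩ := IsPGroup.iff_card.1 Q.isPGroup'
  have hd := card_subgroup_dvd_card (Q : Subgroup A8)
  rw [eh_card, hk] at hd
  rw [hk]
  have : k ≤ 2 := by
    by_contra e
    exact absurd ((pow_dvd_pow 3 (show 3 ≤ k by omega)).trans hd) (by norm_num)
  exact (Nat.pow_le_pow_right (by norm_num) this).trans hc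

def ehA : A8 := ⟨swap 0 1 * swap 1 2, by rw [mem_alternatingGroup]; decide⟩
def ehB : A8 := ⟨swap 3 4 * swap 4 5, by rw [mem_alternatingGroup]; decide⟩
def ehR : A8 := ⟨swap 0 1 * swap 0 3 * swap 1 4 * swap 2 5, by rw [mem_alternatingGroup]; decide⟩
def ehT : A8 := ⟨swap 0 1 * swap 6 7, by rw [mem_alternatingGroup]; decide⟩

theorem eh_nrm {H : Type*} [Group H] [Finite H] {a b g : H}
    (h1 : g * a * g⁻¹ ∈ closure ({a, b} : Set H)) (h2 : g * b * g⁻¹ ∈ closure ({a, b} : Set H)) :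
    g ∈ normalizer (closure ({a, b} : Set H) : Set H) := by
  refine mem_normalizer_fintype fun n hn => ?_
  have : closure ({a, b} : Set H) ≤ (closure ({a, b} : Set H)).comap (MulAut.conj g).toMonoidHom :=
    (closure_le _).2 (by rintro x (rfl | rfl); exacts [h1, h2])
  exact this hn

theorem eh_inj : Function.Injective fun x : (Fin 3 × Fin 3) × Fin 4 × Fin 2 =>
    fun i : Fin 8 => (ehA.1 ^ (x.1.1 : ℕ) * ehB.1 ^ (x.1.2 : ℕ) * ehR.1 ^ (x.2.1 : ℕ) *
      ehT.1 ^ (x.2.2 : ℕ)) i := by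
  have : ((Finset.univ : Finset ((Fin 3 × Fin 3) × Fin 4 × Fin 2)).image fun x =>
      List.ofFn fun i : Fin 8 => (ehA.1 ^ (x.1.1 : ℕ) * ehB.1 ^ (x.1.2 : ℕ) * ehR.1 ^ (x.2.1 : ℕ) *
      ehT.1 ^ (x.2.2 : ℕ)) i).card = (Finset.univ : Finset ((Fin 3 × Fin 3) × Fin 4 × Fin 2)).card := by
    decide +kernel
  have h := Finset.card_image_iff.1 this
  intro x y e
  exact h (Finset.mem_univ x) (Finset.mem_univ y) (congrArg List.ofFn e)

theorem eh_72 (Q : Sylow 3 A8) : 72 ≤ Nat.card (normalizer ((Q : Subgroup A8) : Set A8)) := by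
  haveI : Fact (Nat.Prime 3) := ⟨Nat.prime_three⟩
  have ma : ehA ∈ closure ({ehA, ehB} : Set A8) := subset_closure (by simp)
  have mb : ehB ∈ closure ({ehA, ehB} : Set A8) := subset_closure (by simp)
  obtain ⟨h1, h2⟩ := eh_nine (a := ehA) (b := ehB) (by unfold Commute SemiconjBy; decide)
    (by decide) (by decide) (fun x y e => by
      have := eh_inj (a₁ := (x, 0, 0)) (a₂ := (y, 0, 0)) (by
        funext i
        have := congrArg (fun t : A8 => t.1 i) e
        simpa using this)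
      exact congrArg Prod.fst this)
  obtain ⟨Q0, e0⟩ := eh_syl h1 h2
  have hR : ehR ∈ normalizer (closure ({ehA, ehB} : Set A8) : Set A8) := eh_nrm
    (by
      first
        | (rw [show ehR * ehA * ehR⁻¹ = ehB by decide]; exact mb)
        | (rw [show ehR * ehA * ehR⁻¹ = ehB⁻¹ by decide]; exact inv_mem mb))
    (by
      first
        | (rw [show ehR * ehB * ehR⁻¹ = ehA by decide]; exact ma)
        | (rw [show ehR * ehB * ehR⁻¹ = ehA⁻¹ by decide]; exact inv_mem ma))
  have hT : ehT ∈ normalizer (closure ({ehA, ehB} : Set A8) : Set A8) := eh_nrm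
    (by rw [show ehT * ehA * ehT⁻¹ = ehA⁻¹ by decide]; exact inv_mem ma)
    (by rw [show ehT * ehB * ehT⁻¹ = ehB by decide]; exact mb)
  have h3 := Nat.card_le_card_of_injective (fun x : (Fin 3 × Fin 3) × Fin 4 × Fin 2 =>
      (⟨ehA ^ (x.1.1 : ℕ) * ehB ^ (x.1.2 : ℕ) * ehR ^ (x.2.1 : ℕ) * ehT ^ (x.2.2 : ℕ),
        mul_mem (mul_mem (mul_mem (pow_mem (le_normalizer ma) _) (pow_mem (le_normalizer mb) _))
          (pow_mem hR _)) (pow_mem hT _)⟩ :
        normalizer (closure ({ehA, ehB} : Set A8) : Set A8))) fun x y e => eh_inj (by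
          funext i
          have := congrArg (fun t : normalizer (closure ({ehA, ehB} : Set A8) : Set A8) => t.1.1 i) e
          simpa using this)
  rw [← e0] at h3
  have i1 := Sylow.card_eq_index_normalizer Q
  have i2 := Sylow.card_eq_index_normalizer Q0
  have c1 := (normalizer ((Q : Subgroup A8) : Set A8)).card_mul_index
  have c2 := (normalizer ((Q0 : Subgroup A8) : Set A8)).card_mul_index
  have e : Nat.card (normalizer ((Q : Subgroup A8) : Set A8)) =
      Nat.card (normalizer ((Q0 : Subgroup A8) : Set A8)) := by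
    refine Nat.eq_of_mul_eq_mul_right (Nat.card_pos (α := Sylow 3 A8)) ?_
    conv_lhs => rw [i1]
    conv_rhs => rw [i2]
    exact c1.trans c2.symm
  rw [e]
  simpa using h3

theorem eh_cen {G : Type*} [Group G] [Finite G] {d z : G} (hd : orderOf d = 3) (hz : orderOf z = 3)
    (h : d ∈ zpowers z) : centralizer {d} ≤ normalizer (zpowers z : Set G) := by
  have e : zpowers d = zpowers z := eq_of_le_of_card_ge (zpowers_le.2 h) (by
    rw [Nat.card_zpowers, Nat.card_zpowers, hd, hz])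
  rw [← e, ← centralizer_closure, ← zpowers_eq_closure]
  exact centralizer_le_normalizer _

theorem embh (h : HOM.{u}) : EMB.{u} := by
  intro G _ _ S
  haveI : Fact (Nat.Prime 3) := ⟨Nat.prime_three⟩
  obtain ⟨φ, φi, h1, h2⟩ := h G S
  refine ⟨⟨φ, φi, fun x hx => ?_, S.h27⟩⟩
  have oa : orderOf ya = 3 := orderOf_eq_prime (by decide) (by decide)
  obtain ⟨a, ha⟩ := h1 ⟨ya, rfl⟩
  obtain ⟨b, hb⟩ := h1 ⟨yb, rfl⟩
  have hi : Function.Injective fun x : Fin 3 × Fin 3 => ya ^ (x.1 : ℕ) * yb ^ (x.2 : ℕ) := by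
    decide
  obtain ⟨p1, p2⟩ := eh_nine (a := a) (b := b)
    (φi (by rw [map_mul, map_mul, ha, hb, ← map_mul, ← map_mul, show ya * yb = yb * ya by decide]))
    (φi (by rw [map_pow, ha, ← map_pow, show ya ^ 3 = 1 by decide, map_one, map_one]))
    (φi (by rw [map_pow, hb, ← map_pow, show yb ^ 3 = 1 by decide, map_one, map_one]))
    (fun x y e => hi (S.ψi (by
      have := congrArg φ e
      simpa only [map_mul, map_pow, ha, hb] using this)))
  obtain ⟨Q, eQ⟩ := eh_syl p1 p2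
  have eD : (Q : Subgroup A8).map φ = closure {S.ψ ya, S.ψ yb} := by
    rw [eQ, MonoidHom.map_closure, Set.image_pair, ha, hb]
  have nD : normalizer (closure {S.ψ ya, S.ψ yb} : Subgroup G).carrier ≤ φ.range := by
    have l : (normalizer ((Q : Subgroup A8) : Set A8)).map φ ≤
        normalizer (closure {S.ψ ya, S.ψ yb} : Subgroup G).carrier := by
      rw [← eD]; exact le_normalizer_map φ
    rw [← eq_of_le_of_card_ge l (by rw [S.nD, card_map_of_injective φi]; exact eh_72 Q)]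
    exact map_le_range _ _
  have px : IsPGroup 3 (zpowers x) := IsPGroup.of_card (n := 1) (by rw [Nat.card_zpowers, hx]; rfl)
  obtain ⟨Q', hQ'⟩ := px.exists_le_sylow
  obtain ⟨g, rfl⟩ := MulAction.exists_smul_eq A8 Q Q'
  have hx' : g⁻¹ * x * g ∈ (Q : Subgroup A8) := by
    have := hQ' (mem_zpowers x)
    rw [Sylow.coe_subgroup_smul, mem_pointwise_smul_iff_inv_smul_mem] at this
    simpa using this
  have od : orderOf (φ (g⁻¹ * x * g)) = 3 := by
    rw [orderOf_injective φ φi, ← hx]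
    exact (SemiconjBy.orderOf_eq g (show g * (g⁻¹ * x * g) = x * g by group))
  have md : φ (g⁻¹ * x * g) ∈ closure ({S.ψ ya, S.ψ yb} : Set G) := eD ▸ mem_map_of_mem φ hx'
  have key : centralizer {φ (g⁻¹ * x * g)} ≤ φ.range := by
    by_cases c1 : φ (g⁻¹ * x * g) ∈ zpowers (S.ψ ya)
    · exact (eh_cen od (by rw [orderOf_injective _ S.ψi, oa]) c1).trans (S.ψr.ge.trans h1)
    by_cases c2 : φ (g⁻¹ * x * g) ∈ zpowers (S.ψ yb)
    · rw [← S.ab] at c2
      exact (eh_cen od (by rw [orderOf_injective _ S.χi, oa]) c2).trans (S.χr.ge.trans h2)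
    · exact (S.cy _ md c1 c2).trans nD
  intro c hc
  have h3 : (φ g)⁻¹ * c * φ g ∈ φ.range := key (mem_centralizer_singleton_iff.2 (by
    have := mem_centralizer_singleton_iff.1 hc
    rw [map_mul, map_mul, map_inv]
    calc (φ g)⁻¹ * c * φ g * ((φ g)⁻¹ * φ x * φ g) = (φ g)⁻¹ * (c * φ x) * φ g := by group
      _ = _ := by rw [this]; group))
  have h4 := mul_mem (mul_mem (show φ g ∈ φ.range from ⟨g, rfl⟩) h3)
    (inv_mem (show φ g ∈ φ.range from ⟨g, rfl⟩))
  have : φ g * ((φ g)⁻¹ * c * φ g) * (φ g)⁻¹ = c := by group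
  rwa [this] at h4

end Cfsg.Agent.A8R
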