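import Cfsg.Agent.A8R.F0
import Cfsg.Agent.M12R.Gen
import Cfsg.Agent.Fischer.ES

/-!
# A8R/Ent: identification of the centraliser `2^{1+4}.S₃`
-/

set_option autoImplicit false
set_option maxRecDepth 100000

namespace Cfsg.Agent.A8R

open Cfsg.Agent.Comp Cfsg.Agent.Core Cfsg.Agent.M12R Cfsg.Agent.Fischer Subgroup

variable {G : Type*} [Group G]

theorem back {d a b : G} (dd : d * d = 1) (e : d * a * d⁻¹ = b) : d * b * d⁻¹ = a := by
  rw [← e]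
  calc _ = d * d * a * (d * d)⁻¹ := by group
    _ = _ := by rw [dd]; group

theorem cj_mul {d a b a' b' : G} (e : d * a * d⁻¹ = a') (e' : d * b * d⁻¹ = b') : d * (a * b) * d⁻¹ = a' * b' := by
  rw [← e, ← e']; group

theorem cj_cj {d e a b c : G} (h : d * a * d⁻¹ = b) (h' : e * b * e⁻¹ = c) : e * d * a * (e * d)⁻¹ = c := by
  rw [← h', ← h]; group

theorem cj_inv {d a b : G} (h : d * a * d⁻¹ = b) : d * a⁻¹ * d⁻¹ = b⁻¹ := by rw [← h]; group

theorem cj_rev {d a b : G} (h : d * a * d⁻¹ = b) : d⁻¹ * b * d⁻¹⁻¹ = a := by rw [← h]; group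

theorem inj_of_z {ψ : El DA →* G} (hz : ψ mz ≠ 1) : Function.Injective ψ :=
  (injective_iff_map_eq_one ψ).mpr fun g hg => by
    rcases a_ker g with e | e | ⟨a, -, e | ⟨b, -, e⟩⟩
    · exact e
    · exact absurd (e ▸ hg) hz
    all_goals exact absurd (by rw [← e]; simp [hg]) hz

/-- an element of order three acting on the extraspecial group -/
structure St (Q : Subgroup G) (z x : G) : Prop extends ES Q z where
  x3 : x * x * x = 1
  xz : x * z = z * x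
  nrm : ∀ a ∈ Q, x * a * x⁻¹ ∈ Q
  fix : ∀ a ∈ Q, x * a * x⁻¹ = a → a = 1 ∨ a = z
  card : Nat.card Q = 32

namespace St

variable {Q : Subgroup G} {z x : G}

theorem xi (h : St Q z x) : x⁻¹ = x * x := inv_eq_of_mul_eq_one_left h.x3

theorem norm (h : St Q z x) {a : G} (ha : a ∈ Q) : ∃ b, (b = a ∨ b = a * z) ∧ (b * x) ^ 3 = 1 := by
  have e : (a * x) ^ 3 = a * (x * a * x⁻¹) * (x * (x * a * x⁻¹) * x⁻¹) := by
    calc _ = a * (x * a * x⁻¹) * (x * (x * a * x⁻¹) * x⁻¹) * (x * x * x) := by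
          simp only [pow_succ, pow_zero, one_mul, mul_assoc, inv_mul_cancel_left]
      _ = _ := by rw [h.x3, mul_one]
  have hn : (a * x) ^ 3 ∈ Q := e ▸ mul_mem (mul_mem ha (h.nrm a ha)) (h.nrm _ (h.nrm a ha))
  have e2 : x * (a * x) ^ 3 * x⁻¹ = a⁻¹ * (a * x) ^ 3 * a⁻¹⁻¹ := by
    simp only [pow_succ, pow_zero, one_mul, mul_assoc, inv_mul_cancel_left, mul_inv_cancel, mul_one, inv_inv]
  have zx : Commute z (a * x) := (h.central a ha).mul_right h.xz.symm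
  generalize hm : (a * x) ^ 3 = n at hn e2
  rcases h.fix n hn (by
    refine e2.trans ((h.conj _ (inv_mem ha) _ hn).resolve_right fun e3 => h.ne ?_)
    rw [← e2] at e3
    have e4 : x * z * x⁻¹ = z := cj_fix h.xz
    have e5 : x * (n * z) * x⁻¹ = n := by
      calc _ = x * n * x⁻¹ * (x * z * x⁻¹) := by group
        _ = _ := by rw [e3, e4, mul_assoc, h.zsq, mul_one]
    have : x * x * x * n * (x * x * x)⁻¹ = n * z := by
      calc _ = x * (x * (x * n * x⁻¹) * x⁻¹) * x⁻¹ := by group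
        _ = _ := by rw [e3, e5, e3]
    rw [h.x3] at this
    simpa using this.symm) with rfl | rfl
  · exact ⟨a, Or.inl rfl, hm⟩
  · refine ⟨_, Or.inr rfl, ?_⟩
    rw [← (h.central a ha).eq, mul_assoc, zx.mul_pow, hm, ← pow_succ, show 3 + 1 = 2 * 2 from rfl, pow_mul, sq n, h.zsq,
      one_pow]

theorem norm4 (h : St Q z x) {a : G} (ha : a ∈ Q) (aa : a * a = z) (P : G → Prop) (h1 : P a) (h2 : P (a * z)) :
    ∃ b ∈ Q, b * b = z ∧ (b * x) ^ 3 = 1 ∧ P b := by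
  obtain ⟨b, rfl | rfl, hb⟩ := h.norm ha
  · exact ⟨_, ha, aa, hb, h1⟩
  · refine ⟨_, mul_mem ha h.mem, ?_, hb, h2⟩
    rw [mul_assoc, ← mul_assoc z, (h.central a ha).eq, mul_assoc, h.zsq, mul_one, aa]

theorem ex4 (h : St Q z x) {a b : G} (ha : a ∈ Q) (hb : b ∈ Q) (hab : ¬ Commute a b) :
    ∃ c, (c = a ∨ c = b ∨ c = a * b) ∧ c * c = z := by
  rcases h.sq a ha with e1 | e1
  · rcases h.sq b hb with e2 | e2
    · refine ⟨_, Or.inr (Or.inr rfl), ?_⟩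
      have := h.conj_eq ha hb hab
      rw [inv_eq_of_mul_eq_one_right e1] at this
      rw [← mul_assoc, this, mul_assoc, (h.central b hb).eq, ← mul_assoc, e2, one_mul]
    · exact ⟨_, Or.inr (Or.inl rfl), e2⟩
  · exact ⟨_, Or.inl rfl, e1⟩

theorem tri (h : St Q z x) {p : G} (p3 : (p * x) ^ 3 = 1) : x⁻¹ * p * x = (p * (x * p * x⁻¹))⁻¹ := by
  have xx : x⁻¹ * x⁻¹ = x := by rw [← mul_inv_rev, ← h.xi, inv_inv]
  refine eq_inv_of_mul_eq_one_right ?_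
  calc _ = p * x * p * (x⁻¹ * x⁻¹) * p * x := by group
    _ = _ := by rw [xx, ← p3]; simp only [pow_succ, pow_zero, one_mul, mul_assoc]

theorem q8 (h : St Q z x) {p : G} (pp : p * p = z) (p3 : (p * x) ^ 3 = 1) : ¬ Commute p (x * p * x⁻¹) := fun hc => by
  have e1 : x⁻¹ * p * x * (x⁻¹ * p * x) = z := by
    calc _ = x⁻¹ * (p * p) * x := by group
      _ = _ := by rw [pp, mul_assoc, ← h.xz, inv_mul_cancel_left]
  have e2 : x * p * x⁻¹ * (x * p * x⁻¹) = z := by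
    calc _ = x * (p * p) * x⁻¹ := by group
      _ = _ := by rw [pp, cj_fix h.xz]
  rw [h.tri p3, ← mul_inv_rev, ← sq, hc.mul_pow, sq, sq, pp, e2, h.zsq, inv_one] at e1
  exact h.ne e1.symm

theorem adj (h : St Q z x) {p r : G} (hp : p ∈ Q) (hr : r ∈ Q) (hc : ¬ Commute p r) {a : G} (ha : a ∈ Q) :
    ∃ c ∈ [1, p, r, p * r], Commute (a * c) p ∧ Commute (a * c) r := by
  have k : ∀ {a c b : G}, a ∈ Q → c ∈ Q → b ∈ Q → ¬ Commute a b → ¬ Commute c b → Commute (a * c) b :=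
    fun {a c b} ha hc hb h1 h2 => Inv.commute_iff_conj.2 (by
      calc _ = a * (c * b * c⁻¹) * a⁻¹ := by group
        _ = a * b * a⁻¹ * (a * z * a⁻¹) := by rw [h.conj_eq hc hb h2]; group
        _ = _ := by rw [h.conj_eq ha hb h1, cj_fix (h.central a ha).symm.eq, mul_assoc, h.zsq, mul_one])
  have hc' : ¬ Commute r p := fun e => hc e.symm
  by_cases h1 : Commute a p <;> by_cases h2 : Commute a r
  · exact ⟨1, by simp, by simpa using h1, by simpa using h2⟩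
  · exact ⟨p, by simp, h1.mul_left (Commute.refl _), k ha hp hr h2 hc⟩
  · exact ⟨r, by simp, k ha hr hp h1 hc', h2.mul_left (Commute.refl _)⟩
  · refine ⟨p * r, by simp, k ha (mul_mem hp hr) hp h1 fun e => hc' ?_, ?_⟩
    · simpa using (Commute.refl p).inv_left.mul_left e
    · rw [← mul_assoc]; exact (k ha hp hr h2 hc).mul_left (Commute.refl _)

theorem exists_pq (h : St Q z x) : ∃ p ∈ Q, ∃ q ∈ Q, p * p = z ∧ q * q = z ∧ (p * x) ^ 3 = 1 ∧ (q * x) ^ 3 = 1 ∧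
    Commute q p ∧ Commute q (x * p * x⁻¹) := by
  classical
  obtain ⟨a, ha, b, hb, hab⟩ := h.noncomm
  obtain ⟨p, hp, pp⟩ := h.ex4 ha hb hab
  obtain ⟨p, hp, pp, p3, -⟩ := h.norm4 (a := p) (by rcases hp with rfl | rfl | rfl; exacts [ha, hb, mul_mem ha hb]) pp
    (fun _ => True) trivial trivial
  have hc := h.q8 pp p3
  have hr := h.nrm p hp
  obtain ⟨r, er⟩ : ∃ r, x * p * x⁻¹ = r := ⟨_, rfl⟩
  rw [er] at hc hr
  obtain ⟨a, ha, na⟩ : ∃ a ∈ Q, a ∉ ([1, p, r, p * r].map fun c => c⁻¹) ++ [1, p, r, p * r].map fun c => z * c⁻¹ := by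
    by_contra! H
    have := Set.ncard_le_ncard (s := Q) (fun a ha => List.mem_toFinset.2 (H a ha)) (Finset.finite_toSet _)
    rw [Set.ncard_coe_finset] at this
    have h2 := this.trans (List.toFinset_card_le _)
    rw [← Nat.card_coe_set_eq, SetLike.coe_sort_coe, h.card] at h2
    simp at h2
  have mem : ∀ c ∈ [1, p, r, p * r], c ∈ Q := by
    simp only [List.mem_cons, List.not_mem_nil, or_false, forall_eq_or_imp, forall_eq]
    exact ⟨one_mem _, hp, hr, mul_mem hp hr⟩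
  obtain ⟨c, hc1, c1, c2⟩ := h.adj hp hr hc ha
  obtain ⟨b, hb, hab⟩ : ∃ b ∈ Q, ¬ Commute (a * c) b := by
    by_contra! H
    rcases h.cent _ (mul_mem ha (mem c hc1)) H with e | e
    · exact na (List.mem_append_left _ (List.mem_map.2 ⟨c, hc1, (eq_inv_of_mul_eq_one_left e).symm⟩))
    · exact na (List.mem_append_right _ (List.mem_map.2 ⟨c, hc1, (eq_mul_inv_of_mul_eq e).symm⟩))
  obtain ⟨c', hc2, c3, c4⟩ := h.adj hp hr hc hb
  obtain ⟨q, hq, qq⟩ := h.ex4 (mul_mem ha (mem c hc1)) (mul_mem hb (mem c' hc2)) fun e => hab (by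
    have : Commute (a * c) c' := by
      simp only [List.mem_cons, List.not_mem_nil, or_false] at hc2
      rcases hc2 with rfl | rfl | rfl | rfl
      exacts [Commute.one_right _, c1, c2, c1.mul_right c2]
    simpa using e.mul_right this.inv_right)
  have hq' : q ∈ Q ∧ Commute q p ∧ Commute q r := by
    rcases hq with rfl | rfl | rfl
    exacts [⟨mul_mem ha (mem c hc1), c1, c2⟩, ⟨mul_mem hb (mem c' hc2), c3, c4⟩,
      ⟨mul_mem (mul_mem ha (mem c hc1)) (mul_mem hb (mem c' hc2)), c1.mul_left c3, c2.mul_left c4⟩]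
  obtain ⟨q, hq, qq, q3, c⟩ := h.norm4 hq'.1 qq (fun q => Commute q p ∧ Commute q r) hq'.2
    ⟨hq'.2.1.mul_left (h.central p hp), hq'.2.2.mul_left (h.central r hr)⟩
  exact ⟨p, hp, q, hq, pp, qq, p3, q3, er ▸ c⟩

theorem exists_psi [Finite G] (h : St Q z x) : ∃ ψ : El DQ →* G, Function.Injective ψ ∧ ψ qx = x ∧ ψ qz = z ∧
    ∀ a, a ∈ Q ↔ ∃ g, g ^ 4 = 1 ∧ ψ g = a := by
  obtain ⟨p, hp, q, hq, pp, qq', p3, q3, c1, c2⟩ := h.exists_pq
  obtain ⟨ψ, h1, -⟩ := El.exists_hom (D := DQ) (c := fun n => [p, p⁻¹, q, q⁻¹, x, x⁻¹].getD n 1) fun w hw => by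
    simp only [DQ, RDQ, List.mem_cons, List.not_mem_nil, or_false] at hw
    rcases hw with rfl | rfl | rfl | rfl | rfl | rfl | rfl | rfl | rfl | rfl | rfl | rfl | rfl | rfl <;>
      simp only [ev_cons, ev_nil, List.getD_cons_succ, List.getD_cons_zero, mul_one, mul_inv_cancel, inv_mul_cancel]
    · rw [← mul_assoc, ← mul_assoc, mul_assoc _ p, pp, h.zsq]
    · rw [← mul_assoc, ← mul_inv_rev, pp, qq', mul_inv_cancel]
    · rw [← mul_assoc, h.x3]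
    · rw [← p3]; simp only [pow_succ, pow_zero, one_mul, mul_assoc]
    · rw [← q3]; simp only [pow_succ, pow_zero, one_mul, mul_assoc]
    · rw [← mul_assoc, ← c1.eq]; group
    · calc _ = x * (x⁻¹ * p * x * q * (x⁻¹ * p * x)⁻¹ * q⁻¹) * x⁻¹ := by group
        _ = 1 := by rw [h.tri p3, cj_fix (c1.mul_right c2).inv_right.symm.eq]; group
    · calc _ = p * p * x * (p * p)⁻¹ * x⁻¹ := by group
        _ = 1 := by rw [pp, ← h.xz]; group
  obtain ⟨l0, l2, l4, lz⟩ := q_l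
  have a0 : ψ qp = p := l0 ▸ h1 0 (by decide)
  have a2 : ψ qq = q := l2 ▸ h1 2 (by decide)
  have a4 : ψ qx = x := l4 ▸ h1 4 (by decide)
  have az : ψ qz = z := by rw [lz, map_mul, a0, pp]
  have hi : Function.Injective ψ := (injective_iff_map_eq_one ψ).mpr fun g hg => by
    rcases q_ker g with e | e | ⟨a, -, e | ⟨b, -, e⟩⟩
    · exact e
    · exact absurd (az ▸ e ▸ hg) h.ne
    all_goals exact absurd (by rw [← az, ← e]; simp [hg]) h.ne
  have H : ∀ a, (∃ g, g ^ 4 = 1 ∧ ψ g = a) → a ∈ Q := by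
    rintro _ ⟨g, hg, rfl⟩
    obtain ⟨i, -, j, -, k, -, l, -, rfl⟩ := q_Q g hg
    rw [map_nf, a0, a2, a4, nf, pow_zero, mul_one]
    exact mul_mem (mul_mem (mul_mem (pow_mem hp _) (pow_mem (h.nrm _ hp) _)) (pow_mem hq _)) (pow_mem (h.nrm _ hq) _)
  refine ⟨ψ, hi, a4, az, fun a => ⟨of_card_le (Q := (· ∈ Q)) H ?_ a, H a⟩⟩
  exact h.card.le.trans ((El.card_sub (Q := fun a => ∃ g, g ^ 4 = 1 ∧ ψ g = a) hi (fun g ⟨a, _, e⟩ => ⟨a, e⟩)
    (fun g => g ^ 4 = 1) fun g => ⟨fun ⟨a, h1, e⟩ => hi e ▸ h1, fun h1 => ⟨g, h1, rfl⟩⟩).trans q_cnt).ge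

end St

theorem mk_cm [Finite G] {D : RTab} [Fact D.OK] {φ : El D →* G} {z : El D} (hi : Function.Injective φ)
    (hz : ∀ g, g * z = z * g) (hc : Nat.card (centralizer ({φ z} : Set G)) = D.n) : CM φ z := by
  have : φ.range = centralizer {φ z} := eq_of_le_of_card_ge (by
    rintro _ ⟨y, rfl⟩
    exact mem_cent.2 (by rw [← map_mul, hz, map_mul])) (by rw [El.card_range hi, hc])
  exact ⟨hi, fun g => by rw [← mem_cent, ← this]; rfl⟩

theorem entry' [Finite G] {Q : Subgroup G} {z x : G} (h : St Q z x) (hc : Nat.card (centralizer ({z} : Set G)) = 192)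
    (nq : ∀ l, l * z = z * l → ∀ a ∈ Q, l * a * l⁻¹ ∈ Q) {τ : G} (t0 : τ * z = z * τ) (t1 : x * (τ * x * τ⁻¹) ∈ Q)
    (t2 : τ * τ ∈ Q) (cov : ∀ τ, τ * z = z * τ → τ * x * τ⁻¹ = x⁻¹ → ∀ l, l * z = z * l →
      ∃ m : ℕ, l * x ^ m ∈ Q ∨ τ⁻¹ * l * x ^ m ∈ Q) {k : G} (k1 : k * z * k⁻¹ ∈ Q) (k2 : k * z * k⁻¹ ≠ z) :
    (∃ φ : El DL →* G, CM φ M12R.mz ∧ IsConj (φ M12R.mz) (φ M12R.mv)) ∨
      ∃ φ : El DA →* G, CM φ mz ∧ ∃ y, y ≠ mz ∧ IsConj 𝐳 (φ y) ∧ (y * (mx * y * mx⁻¹)) ^ 4 = 1 := by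
  obtain ⟨ψ, hi, rfl, rfl, hQ⟩ := h.exists_psi
  have cz : ∀ g, ψ g * ψ qz = ψ qz * ψ g := fun g => by
    rw [← map_mul, (by decide +kernel : ∀ g : El DQ, g * qz = qz * g), map_mul]
  obtain ⟨τ, t0, t1, t2⟩ : ∃ τ, τ * ψ qz = ψ qz * τ ∧ τ * ψ qx * τ⁻¹ = (ψ qx)⁻¹ ∧ τ * τ ∈ Q := by
    obtain ⟨a, a4, ha⟩ := (hQ _).1 t1
    have e : ψ (qx⁻¹ * a) = τ * ψ qx * τ⁻¹ := by rw [map_mul, map_inv, ha]; group
    obtain ⟨c, c4, hc⟩ := q_x3 a a4 (hi (by rw [map_pow, e, conj_pow, pow_three', h.x3, map_one]; group))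
    have cq : (ψ c)⁻¹ ∈ Q := inv_mem ((hQ _).2 ⟨c, c4, rfl⟩)
    refine ⟨(ψ c)⁻¹ * τ, by rw [mul_assoc, t0, ← map_inv, ← mul_assoc, cz, mul_assoc], ?_, ?_⟩
    · calc _ = (ψ c)⁻¹ * (τ * ψ qx * τ⁻¹) * ψ c := by group
        _ = _ := by rw [← e, ← hc]; simp only [map_mul, map_inv]; group
    · rw [show (ψ c)⁻¹ * τ * ((ψ c)⁻¹ * τ) = (ψ c)⁻¹ * (τ * (ψ c)⁻¹ * τ⁻¹) * (τ * τ) by group]
      exact mul_mem (mul_mem cq (nq τ t0 _ cq)) t2
  have im : ∀ τ, τ * ψ qz = ψ qz * τ → τ * ψ qx * τ⁻¹ = (ψ qx)⁻¹ → ∀ p : El DQ, p ^ 4 = 1 → p * p = qz →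
      (p * qx) ^ 3 = 1 → ∃ a, ψ a = τ * ψ p * τ⁻¹ ∧ a * a = qz ∧ (a * qx⁻¹) ^ 3 = 1 := fun τ t0 t1 p p4 pp p3 => by
    obtain ⟨a, -, ha⟩ := (hQ _).1 (nq τ t0 _ ((hQ _).2 ⟨p, p4, rfl⟩))
    refine ⟨a, ha, hi ?_, hi ?_⟩
    · rw [map_mul, ha, ← cj_fix t0, ← pp, map_mul]; group
    · rw [map_pow, map_mul, map_inv, ha, ← t1, show τ * ψ p * τ⁻¹ * (τ * ψ qx * τ⁻¹) = τ * ψ (p * qx) * τ⁻¹ by
        rw [map_mul]; group, conj_pow, ← map_pow, p3]; simp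
  obtain ⟨τ, t0, t1, t2, t3⟩ : ∃ τ, τ * ψ qz = ψ qz * τ ∧ τ * ψ qx * τ⁻¹ = (ψ qx)⁻¹ ∧ τ * τ ∈ Q ∧
      (τ * ψ qp * τ⁻¹ = ψ qp⁻¹ ∨ τ * ψ qp * τ⁻¹ = ψ qq⁻¹) := by
    obtain ⟨a, ha, a1, a2⟩ := im τ t0 t1 qp (by decide +kernel) (by decide +kernel) (by decide +kernel)
    obtain ⟨m, -, hm⟩ := q_p1 a a1 a2
    refine ⟨ψ qx ^ m * τ, by rw [mul_assoc, t0, ← map_pow, ← mul_assoc, cz, mul_assoc], ?_, ?_, ?_⟩
    · calc _ = ψ qx ^ m * (τ * ψ qx * τ⁻¹) * (ψ qx ^ m)⁻¹ := by group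
        _ = _ := by rw [t1]; group
    · rw [show ψ qx ^ m * τ * (ψ qx ^ m * τ) = ψ qx ^ m * (τ * ψ qx * τ⁻¹) ^ m * (τ * τ) by rw [conj_pow]; group, t1]
      simpa using t2
    · refine hm.imp (fun e => ?_) fun e => ?_ <;>
      calc _ = ψ qx ^ m * (τ * ψ qp * τ⁻¹) * (ψ qx ^ m)⁻¹ := by group
        _ = _ := by rw [← ha, e]; simp only [map_mul, map_inv, map_pow]; group
  have kill : ∀ p1 q1 : El DQ, τ * ψ qp * τ⁻¹ = ψ p1 → τ * ψ qq * τ⁻¹ = ψ q1 → τ * τ = ψ qz →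
      (∀ m < 3, ∀ i < 4, ∀ j < 2, ∀ k < 2, ∀ l < 2, nf p1 q1 qx⁻¹ i j k l m * qz * nf qp qq qx i j k l m ≠ 1) →
      False := fun p1 q1 e1 e2 e3 H => by
    have A : ∀ l, l * ψ qz = ψ qz * l → l * l = 1 → l ∈ Q := fun l hl ll => by
      obtain ⟨m, e | e⟩ := cov τ t0 t1 l hl <;> obtain ⟨g, -, hg⟩ := (hQ _).1 e
      · have : ψ (g * (qx ^ m)⁻¹) = l := by rw [map_mul, map_inv, map_pow, hg]; group
        exact (hQ _).2 ⟨_, hi (by rw [map_pow, this, show 4 = 2 * 2 from rfl, pow_mul, sq l, ll, one_pow, map_one]), this⟩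
      · have : τ * ψ (g * (qx ^ m)⁻¹) = l := by rw [map_mul, map_inv, map_pow, hg]; group
        obtain ⟨m, hm, i, h1, j, h2, k, h3, n, h4, e⟩ := q_all (g * (qx ^ m)⁻¹)
        refine (H m hm i h1 j h2 k h3 n h4 (hi ?_)).elim
        rw [map_mul, map_mul, map_one, ← ll, ← this, e, ← e3, map_nf, map_inv, ← e1, ← e2, ← t1, map_nf ψ qp,
          ← MulAut.conj_apply, ← MulAut.conj_apply τ (ψ qq), ← MulAut.conj_apply τ (ψ qx), ← map_nf, MulAut.conj_apply]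
        group
    have kz := h.central _ k1
    obtain ⟨r, -, hr⟩ := (hQ _).1 (A (k⁻¹ * ψ qz * k⁻¹⁻¹) (by simpa [mul_assoc] using cj_comm kz.eq k⁻¹)
      (cj_sq h.zsq _))
    obtain ⟨a, a1, a2, b, b1, b2, e⟩ := q_d8 r (hi (by rw [map_mul, hr, map_one]; exact cj_sq h.zsq _))
      (fun e => h.ne (by rwa [e, map_one, eq_comm, conj_eq_one_iff] at hr)) fun e => k2 (by
        rw [e] at hr
        nth_rw 1 [hr]; group)
    have B : ∀ a : El DQ, a * a = 1 → a * r = r * a → k * ψ a * k⁻¹ ∈ Q := fun a a1 a2 => A _ (by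
      have := cj_comm (show ψ a * ψ r = ψ r * ψ a by rw [← map_mul, a2, map_mul]) k
      rwa [hr, show k * (k⁻¹ * ψ qz * k⁻¹⁻¹) * k⁻¹ = ψ qz by group] at this) (cj_sq (by rw [← map_mul, a1, map_one]) _)
    have := h.sq _ (mul_mem (B a a1 a2) (B b b1 b2))
    rw [show k * ψ a * k⁻¹ * (k * ψ b * k⁻¹) * (k * ψ a * k⁻¹ * (k * ψ b * k⁻¹)) = k * ψ (a * b * (a * b)) * k⁻¹ by
      simp only [map_mul]; group, e, conj_eq_one_iff] at this
    exact this.elim h.ne k2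
  have t1' := (cj_inv t1).trans (inv_inv _)
  have tt := h.fix _ t2 (cj_fix (comm_of_cj (cj_cj t1 t1')).symm)
  have r1 : τ * τ = 1 → τ * (ψ qx * (τ * ψ qx)) = 1 := fun e => by
    calc _ = τ * ψ qx * τ⁻¹ * (τ * τ) * ψ qx := by group
      _ = 1 := by rw [t1, e]; group
  have r2 : τ * τ = 1 → ∀ a b : G, τ * a * τ⁻¹ = b⁻¹ → τ * (a * (τ * b)) = 1 := fun e a b e' => by
    calc _ = τ * a * τ⁻¹ * (τ * τ) * b := by group
      _ = 1 := by rw [e', e]; group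
  have kz := (h.central _ k1).symm.eq
  rcases t3 with t3 | t3
  · obtain ⟨a, ha, a1, a2⟩ := im τ t0 t1 qq (by decide +kernel) (by decide +kernel) (by decide +kernel)
    obtain ⟨m, hm, e⟩ := q_q1 a a1 a2 (hi (by
      rw [map_mul, map_mul, ha, ← t3]; exact cj_comm (mdl hi) τ)) (hi (by
      have : ψ (qx * qp⁻¹ * qx⁻¹) = τ * ψ (qx⁻¹ * qp * qx) * τ⁻¹ := by
        simp only [map_mul, map_inv ψ qx]
        exact (cj_mul (cj_mul t1' t3) t1).symm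
      rw [map_mul ψ a, map_mul ψ _ a, ha, this]; exact cj_comm (mdl hi) τ))
    rcases tt with tt | tt
    swap
    · exact (kill _ _ t3 (ha.symm.trans (by rw [← e]; congr 1; group)) tt fun m' h0 i h1 j h2 k h3 l h4 =>
        (q_ns m' h0 i h1 j h2 k h3 l h4).2 m hm).elim
    have t4 : τ * ψ (qx ^ m * qq * (qx ^ m)⁻¹) * τ⁻¹ = (ψ (qx ^ m * qq * (qx ^ m)⁻¹))⁻¹ := by
      rw [← map_inv ψ, ← e]
      simp only [map_mul, map_inv, map_pow, ha]
      calc _ = (τ * ψ qx * τ⁻¹) ^ m * (τ * ψ qq * τ⁻¹) * ((τ * ψ qx * τ⁻¹) ^ m)⁻¹ := by rw [conj_pow]; group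
        _ = _ := by rw [t1]; group
    have hs : ∀ m < 3, ∀ w ∈ RDQ, ev (fun n => [qp, qp⁻¹, qx ^ m * qq * (qx ^ m)⁻¹, (qx ^ m * qq * (qx ^ m)⁻¹)⁻¹, qx,
      qx⁻¹].getD n 1) w = 1 := by decide +kernel
    have hs := hs m hm
    generalize qx ^ m * qq * (qx ^ m)⁻¹ = q at t4 hs
    obtain ⟨χ, h1, -⟩ := El.exists_hom (D := DB) (c := fun n => [ψ qp, ψ qp⁻¹, ψ q, ψ q⁻¹, ψ qx, ψ qx⁻¹, τ].getD n 1)
      (show Sat _ (RDQ ++ [[6, 6], [6, 4, 6, 4], [6, 0, 6, 0], [6, 2, 6, 2]]) from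
      ((Sat.map hs ψ).congr fun w hw i hi => by
        have := (by decide +kernel : ∀ w ∈ RDQ, ∀ i ∈ w, i < 6) w hw i hi
        interval_cases i <;> rfl).append fun w hw => by
        simp only [List.mem_cons, List.not_mem_nil, or_false] at hw
        rcases hw with rfl | rfl | rfl | rfl <;>
          simp only [ev_cons, ev_nil, List.getD_cons_succ, List.getD_cons_zero, mul_one]
        exacts [tt, r1 tt, r2 tt _ _ (t3.trans (map_inv _ _)), r2 tt _ _ t4])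
    obtain ⟨σ, h2, -⟩ := El.exists_hom (D := DL) (c := fun n => bL.getD n 1) (by unfold Sat; decide +kernel)
    have e : χ.comp σ M12R.mz = ψ qz := by
      rw [MonoidHom.comp_apply, M12R.z_eq.1, map_mul, ← M12R.l_eq.1, h2 0 (by decide),
        show bL.getD 0 1 * bL.getD 0 1 = El.l DB 0 * El.l DB 0 by decide +kernel, map_mul, h1 0 (by decide), q_l.2.2.2,
        map_mul]
      rfl
    have H : CM (χ.comp σ) M12R.mz := mk_cm (M12R.inj_of_z (e ▸ h.ne)) M12R.f_z (e ▸ hc)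
    exact Or.inl ⟨_, H, zv_of_not_isolated H (g := k) (by rw [e]; exact kz) (by rw [e]; exact k2)⟩
  · have t4 : τ * ψ qq * τ⁻¹ = ψ qp⁻¹ := by
      have := cj_cj ((cj_inv t3).trans (show _ = ψ qq from mdl hi)) (rfl : τ * ψ qq * τ⁻¹ = _)
      rw [← this]
      rcases tt with tt | tt <;> rw [tt]
      · simp
      · exact mdl hi
    rcases tt with tt | tt
    swap
    · exact (kill _ _ t3 t4 tt fun m' h0 i h1 j h2 k h3 l h4 => (q_ns m' h0 i h1 j h2 k h3 l h4).1).elim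
    obtain ⟨φ, h1, -⟩ := El.exists_hom (D := DA) (c := fun n => [ψ qp, ψ qp⁻¹, ψ qq, ψ qq⁻¹, ψ qx, ψ qx⁻¹, τ].getD n 1)
      (show Sat _ (RDQ ++ [[6, 6], [6, 4, 6, 4], [6, 0, 6, 2]]) from
      ((Sat.map (show Sat (fun n => [qp, qp⁻¹, qq, qq⁻¹, qx, qx⁻¹].getD n 1) RDQ by unfold Sat; decide +kernel) ψ).congr
        fun w hw i hi => by
        have := (by decide +kernel : ∀ w ∈ RDQ, ∀ i ∈ w, i < 6) w hw i hi
        interval_cases i <;> rfl).append fun w hw => by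
        simp only [List.mem_cons, List.not_mem_nil, or_false] at hw
        rcases hw with rfl | rfl | rfl <;>
          simp only [ev_cons, ev_nil, List.getD_cons_succ, List.getD_cons_zero, mul_one]
        exacts [tt, r1 tt, r2 tt _ _ (t3.trans (map_inv _ _))])
    have e : 𝐳 = ψ qz := by
      rw [a_l.2.2.2.2.2.2.2, map_mul, ← a_l.1, h1 0 (by decide), q_l.2.2.2, map_mul]; rfl
    have e' : 𝐱 = ψ qx := a_l.2.2.2.2.1 ▸ h1 4 (by decide)
    have H : CM φ mz := mk_cm (inj_of_z (e ▸ h.ne)) (by decide +kernel) (e ▸ hc)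
    obtain ⟨y, hy⟩ := (H.cent (k * ψ qz * k⁻¹)).1 (by rw [e]; exact kz)
    refine Or.inr ⟨φ, H, y, fun e1 => k2 (by rw [← hy, e1, e]), cj_of k (by rw [e, hy]), H.inj ?_⟩
    obtain ⟨g, g4, hg⟩ := (hQ _).1 (mul_mem k1 (h.nrm _ k1))
    rw [map_pow, map_mul, map_mul, map_mul, map_inv, hy, e', ← hg, ← map_pow, g4, map_one, map_one]

theorem entry [Finite G] (s : G) (Q : Subgroup G) (hQ : Q = (pCore 2 (centralizer ({s} : Set G))).map (Subgroup.subtype _))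
    (hQex : IsExtraspecial 2 Q) (hQcard : Nat.card Q = 32)
    (e : centralizer ({s} : Set G) ⧸ pCore 2 (centralizer ({s} : Set G)) ≃* Equiv.Perm (Fin 3))
    (X : Sylow 3 (centralizer ({s} : Set G)))
    (hX : Q ⊓ centralizer (((X : Subgroup (centralizer ({s} : Set G))).map (Subgroup.subtype _) : Subgroup G) : Set G) =
      zpowers s) (hnwc : ∃ g : G, g * s * g⁻¹ ∈ Q ∧ g * s * g⁻¹ ≠ s) (hs : orderOf s = 2) :
    (∃ φ : El DL →* G, CM φ M12R.mz ∧ IsConj (φ M12R.mz) (φ M12R.mv)) ∨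
      ∃ φ : El DA →* G, CM φ mz ∧ ∃ y, y ≠ mz ∧ IsConj 𝐳 (φ y) ∧ (y * (mx * y * mx⁻¹)) ^ 4 = 1 := by
  haveI : Fact (Nat.Prime 3) := ⟨Nat.prime_three⟩
  let π := e.toMonoidHom.comp (QuotientGroup.mk' _)
  have hπ : ∀ l : centralizer ({s} : Set G), π l = 1 ↔ (l : G) ∈ Q := fun l => by
    rw [hQ, ← coe_subtype, mem_map_iff_mem (Subgroup.subtype_injective _)]
    exact (map_eq_one_iff _ e.injective).trans (QuotientGroup.eq_one_iff l)
  have hc : Nat.card (centralizer ({s} : Set G)) = 192 := by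
    rw [card_eq_card_quotient_mul_card_subgroup (pCore 2 _), Nat.card_congr e.toEquiv, Nat.card_perm, Nat.card_fin,
      ← card_map_of_injective (Subgroup.subtype_injective _), ← hQ, hQcard]
    rfl
  have hX3 : Nat.card X = 3 := by
    rw [X.card_eq_multiplicity, hc, Nat.factorization_def _ (by norm_num)]
    decide +kernel
  obtain ⟨x0, hx⟩ := exists_prime_orderOf_dvd_card' (G := X) 3 (by rw [hX3])
  rw [← orderOf_coe] at hx
  have hz : zpowers (x0 : centralizer ({s} : Set G)) = X :=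
    eq_of_le_of_card_ge (zpowers_le.2 x0.2) (by rw [Nat.card_zpowers, hx, hX3])
  generalize (x0 : centralizer ({s} : Set G)) = x at hx hz
  have x3 : x * x * x = 1 := by rw [← pow_three', ← hx, pow_orderOf_eq_one]
  have nq : ∀ l, l * s = s * l → ∀ a ∈ Q, l * a * l⁻¹ ∈ Q := fun l hl a ha => by
    rw [hQ] at ha
    obtain ⟨a, ha, rfl⟩ := ha
    rw [hQ]
    exact ⟨_, (inferInstance : (pCore 2 _).Normal).conj_mem a ha ⟨l, mem_cent.2 hl⟩, rfl⟩
  obtain ⟨z, hz', -⟩ := exists_es hQex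
  obtain rfl : s = z := (hz'.cent s (hX.ge (mem_zpowers s)).1 fun y hy => by
    rw [hQ] at hy
    obtain ⟨y, -, rfl⟩ := hy
    exact (mem_cent.1 y.2).symm).resolve_left (Inv.ne_one_of_two hs)
  have h : St Q s x := ⟨hz', congrArg Subtype.val x3, mem_cent.1 x.2, nq _ (mem_cent.1 x.2), fun a ha e =>
    (mem_zpowers_two hz'.zsq).1 (hX.le ⟨ha, by
      rintro _ ⟨y, hy, rfl⟩
      rw [← hz] at hy
      obtain ⟨n, rfl⟩ := hy
      exact (Commute.zpow_left (show Commute (x : G) a from comm_of_cj e) n).eq⟩), hQcard⟩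
  have y1 : π x ≠ 1 := fun e => by
    have x2 : (x : G) * x * (x * x) = 1 := by
      rcases hz'.sq _ ((hπ x).1 e) with e | e <;> rw [e]
      exacts [one_mul _, hz'.zsq]
    rw [← mul_assoc, h.x3, one_mul] at x2
    rw [show x = 1 from Subtype.ext x2, orderOf_one] at hx
    exact absurd hx (by decide)
  have y3 : π x * π x * π x = 1 := by rw [← map_mul, ← map_mul, x3, map_one]
  obtain ⟨σ, s1, s2⟩ := (by decide +kernel : ∀ y : Equiv.Perm (Fin 3), y * y * y = 1 → ∃ σ, σ * σ = 1 ∧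
    y * (σ * y * σ⁻¹) = 1) _ y3
  obtain ⟨τ, rfl⟩ := (show Function.Surjective π from e.surjective.comp (QuotientGroup.mk'_surjective _)) σ
  obtain ⟨k, k1, k2⟩ := hnwc
  refine entry' h hc nq (mem_cent.1 τ.2) ((hπ (x * (τ * x * τ⁻¹))).1 (by simpa only [map_mul, map_inv] using s2))
    ((hπ (τ * τ)).1 (by simpa only [map_mul] using s1)) (fun t t0 t1 l hl => ?_) k1 k2
  let t' : centralizer ({s} : Set G) := ⟨t, mem_cent.2 t0⟩
  let l' : centralizer ({s} : Set G) := ⟨l, mem_cent.2 hl⟩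
  obtain ⟨m, -, H⟩ := (by decide +kernel : ∀ y : Equiv.Perm (Fin 3), y * y * y = 1 → y ≠ 1 → ∀ σ, σ * y * σ⁻¹ = y⁻¹ →
    ∀ ρ, ∃ m < 3, ρ * y ^ m = 1 ∨ σ⁻¹ * ρ * y ^ m = 1) _ y3 y1 (π t') (by
      rw [← map_inv, ← map_inv, ← map_mul, ← map_mul]; exact congrArg π (Subtype.ext t1)) (π l')
  exact ⟨m, H.imp (fun e => (hπ (l' * x ^ m)).1 (by simpa only [map_mul, map_pow] using e))
    fun e => (hπ (t'⁻¹ * l' * x ^ m)).1 (by simpa only [map_mul, map_pow, map_inv] using e)⟩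

end Cfsg.Agent.A8R
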