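import Cfsg.Agent.A8R.Def
import Cfsg.Agent.Classical.SLBasic

set_option autoImplicit false

namespace Cfsg.Agent.A8R
open Subgroup Equiv Equiv.Perm

theorem fin_cS8 : Nat.card (centralizer ({((u1 * v1 : A8) : Perm (Fin 8))} : Set (Perm (Fin 8)))) = 384 := by
  have h1 := cycleType_of_pow_prime_eq_one (σ := ((u1 * v1 : A8) : Perm (Fin 8))) (p := 2) (by decide +kernel)
  have h2 := sum_cycleType ((u1 * v1 : A8) : Perm (Fin 8))
  have h3 : ((u1 * v1 : A8) : Perm (Fin 8)).support.card = 8 := by decide +kernel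
  rw [h1, Multiset.sum_replicate, h3, smul_eq_mul] at h2
  have h4 : ((u1 * v1 : A8) : Perm (Fin 8)).cycleType.card = 4 := by omega
  rw [h4] at h1
  rw [nat_card_centralizer, h1]
  decide +kernel

theorem fin_cA8 : Nat.card (centralizer ({u1 * v1} : Set A8)) ≤ 192 := by
  have hle : (centralizer ({u1 * v1} : Set A8)).map (alternatingGroup (Fin 8)).subtype ≤
      centralizer ({((u1 * v1 : A8) : Perm (Fin 8))} : Set (Perm (Fin 8))) := by
    rintro _ ⟨x, hx, rfl⟩
    exact mem_centralizer_singleton_iff.2 (congrArg Subtype.val (mem_centralizer_singleton_iff.1 hx))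
  have hd := card_dvd_of_le hle
  have hne : Nat.card ((centralizer ({u1 * v1} : Set A8)).map (alternatingGroup (Fin 8)).subtype) ≠ 384 := fun e => by
    have := eq_of_le_of_card_ge hle (by rw [e, fin_cS8])
    have h2 : swap (0 : Fin 8) 1 ∈ centralizer ({((u1 * v1 : A8) : Perm (Fin 8))} : Set (Perm (Fin 8))) :=
      mem_centralizer_singleton_iff.2 (by decide +kernel)
    rw [← this] at h2
    obtain ⟨x, -, hx⟩ := h2
    have h3 := mem_alternatingGroup.1 x.2
    rw [show (x : Perm (Fin 8)) = swap 0 1 from hx, sign_swap (by decide)] at h3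
    exact absurd h3 (by decide)
  rw [fin_cS8] at hd
  rw [card_map_of_injective (subtype_injective _)] at hd hne
  obtain ⟨k, hk⟩ := hd
  rcases k with _ | _ | k
  · omega
  · omega
  · nlinarith

theorem fin_cL3 : Nat.card (Matrix.ProjectiveSpecialLinearGroup (Fin 3) (ZMod 2)) = 168 := by
  have h4 := Cfsg.Agent.Classical.SLBasic.card_center_mul_card_PSL (ι := Fin 3) (R := ZMod 2)
  have h5 := Cfsg.Agent.Classical.SLBasic.card_SL (F := ZMod 2) 3 (by norm_num)
  rw [Cfsg.Agent.Classical.SLBasic.card_center_SL] at h4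
  simp [Fin.prod_univ_three, -Nat.card_eq_fintype_card] at h4 h5
  exact h4.trans h5

end Cfsg.Agent.A8R
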