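import Cfsg.Agent.A8R.Main
import Cfsg.Agent.A8R.Ent
import Cfsg.Agent.A8R.FINx
import Cfsg.Agent.A8R.NCJ

set_option autoImplicit false
set_option maxRecDepth 100000

namespace Cfsg.Agent.A8R
open Subgroup Equiv Equiv.Perm Cfsg.Agent.Comp Cfsg.Agent.Core

universe u

def fzp : A8 := ⟨swap 0 2 * swap 1 3 * swap 2 3 * swap 4 6 * swap 5 7 * swap 6 7, by rw [mem_alternatingGroup]; decide⟩
def fzq : A8 := ⟨swap 0 2 * swap 1 3 * swap 2 3 * swap 4 7 * swap 5 6 * swap 6 7, by rw [mem_alternatingGroup]; decide⟩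
def fzx : A8 := ⟨swap 0 3 * swap 1 2 * swap 2 4 * swap 3 5, by rw [mem_alternatingGroup]; decide⟩
def fzt : A8 := ⟨swap 0 2 * swap 1 3 * swap 4 5 * swap 6 7, by rw [mem_alternatingGroup]; decide⟩
def fzg : A8 := ⟨swap 1 5 * swap 2 5 * swap 3 4 * swap 4 5 * swap 5 7 * swap 6 7, by rw [mem_alternatingGroup]; decide⟩

theorem fz_hom : ∃ θ : El DA →* A8, θ mp = fzp ∧ θ mq = fzq ∧ θ mx = fzx := by
  obtain ⟨θ, h1, -⟩ := El.exists_hom (D := DA)
    (c := fun n => [fzp, fzp⁻¹, fzq, fzq⁻¹, fzx, fzx⁻¹, fzt].getD n 1)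
    (show Sat _ RDA by unfold Sat; decide +kernel)
  exact ⟨θ, a_l.1 ▸ h1 0 (by decide), a_l.2.2.1 ▸ h1 2 (by decide), a_l.2.2.2.2.1 ▸ h1 4 (by decide)⟩

theorem finz : FIN.{u} := fun G _ _ E hE => by
  obtain ⟨θ, hp, hq, hx⟩ := fz_hom
  have ez : θ mz = u1 * v1 := by
    rw [a_l.2.2.2.2.2.2.2, map_mul, hp]; decide +kernel
  have e : (E.φ.comp θ) mz = E.φ (u1 * v1) := congrArg E.φ ez
  have hi : Function.Injective (E.φ.comp θ) := inj_of_z (by
    rw [e]; exact fun h => absurd (E.φi (h.trans (map_one _).symm)) (by decide +kernel))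
  have hz : ∀ g : El DA, g * mz = mz * g := by decide +kernel
  have hc : Nat.card (centralizer ({E.φ (u1 * v1)} : Set G)) = 192 := by
    have d : 192 ∣ Nat.card (centralizer ({E.φ (u1 * v1)} : Set G)) := by
      have : Nat.card (E.φ.comp θ).range = 192 := El.card_range hi
      rw [← this]
      refine card_dvd_of_le ?_
      rintro _ ⟨y, rfl⟩
      rw [← e]
      exact mem_centralizer_singleton_iff.2 (by rw [← map_mul, hz, map_mul])
    have e1 : Nat.card (centralizer ({E.φ (u1 * v1)} : Set G)) =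
        Nat.card (((centralizer ({E.φ (u1 * v1)} : Set G)).comap E.φ).map A8.subtype) := by
      rw [card_map_of_injective (subtype_injective A8), ← card_map_of_injective E.φi,
        map_comap_eq_self hE]
    have l : ((centralizer ({E.φ (u1 * v1)} : Set G)).comap E.φ).map A8.subtype ≤
        centralizer ({((u1 * v1 : A8) : Perm (Fin 8))} : Set (Perm (Fin 8))) := by
      rintro _ ⟨x, hx, rfl⟩
      have := mem_centralizer_singleton_iff.1 (show E.φ x ∈ _ from hx)
      rw [← map_mul, ← map_mul] at this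
      exact mem_centralizer_singleton_iff.2 (congrArg Subtype.val (E.φi this))
    have l1 := card_le_of_le l
    have n : Nat.card (centralizer ({E.φ (u1 * v1)} : Set G)) ≠ 384 := fun h => by
      have := eq_of_le_of_card_ge l (by rw [ncj_cs, ← e1, h])
      have m : swap (0 : Fin 8) 1 ∈ centralizer ({((u1 * v1 : A8) : Perm (Fin 8))} : Set _) :=
        mem_centralizer_singleton_iff.2 (by decide +kernel)
      rw [← this] at m
      obtain ⟨x, -, hx⟩ := m
      have := mem_alternatingGroup.1 x.2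
      rw [show x.1 = swap 0 1 from hx] at this
      exact absurd this (by decide)
    rw [ncj_cs, ← e1] at l1
    have := Nat.card_pos (α := centralizer ({E.φ (u1 * v1)} : Set G))
    omega
  refine finx E (main (Or.inr ⟨E.φ.comp θ, mk_cm hi hz (e ▸ hc), mp * (mx * mq * mx⁻¹),
    by decide +kernel, ?_, by decide +kernel⟩))
  refine isConj_iff.2 ⟨E.φ fzg, ?_⟩
  rw [e, MonoidHom.comp_apply, ← map_inv, ← map_mul, ← map_mul, map_mul θ, map_mul θ, map_mul θ,
    map_inv, hp, hq, hx]
  exact congrArg E.φ (by decide +kernel)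

end Cfsg.Agent.A8R
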