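import Cfsg.Agent.A8R.Rel
import Cfsg.Agent.A8R.F2
import Cfsg.Agent.M12R.Cw

/-!
# A8R/Hq: the normaliser of the four-group in the centraliser of an involution of the second class
-/

set_option autoImplicit false
set_option maxRecDepth 100000

namespace Cfsg.Agent.A8R

open Cfsg.Agent.Comp Cfsg.Agent.Core Cfsg.Agent.M12R Subgroup

universe u

variable {G : Type u} [Group G] {φ : El DA →* G} {f g : G}

set_option hygiene false in
scoped notation "𝐣" => φ mj
set_option hygiene false in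
scoped notation "𝐬" => φ ms
set_option hygiene false in
scoped notation "𝐲" => φ my

theorem ww (φ : El DA →* G) : 𝐲 * 𝐰 * 𝐰 = 𝐲 := by
  rw [← map_mul, ← map_mul, show my * mw * mw = my by decide +kernel]

/-- the stabiliser of the four-group -/
def HH (φ : El DA →* G) : Subgroup G where
  carrier := {g | g * 𝐰 * g⁻¹ = 𝐰 ∧ (g * 𝐲 * g⁻¹ = 𝐲 ∨ g * 𝐲 * g⁻¹ = 𝐲 * 𝐰)}
  one_mem' := ⟨by simp, Or.inl (by simp)⟩
  mul_mem' := fun {a b} ⟨a1, a2⟩ ⟨b1, b2⟩ => ⟨cj_cj b1 a1, by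
    rcases b2 with b2 | b2
    · exact a2.imp (cj_cj b2) (cj_cj b2)
    · rcases a2 with a2 | a2
      · exact Or.inr (cj_cj b2 (cj_mul a2 a1))
      · exact Or.inl (cj_cj b2 ((cj_mul a2 a1).trans (ww φ)))⟩
  inv_mem' := fun {a} ⟨a1, a2⟩ => ⟨cj_rev a1, a2.imp cj_rev fun e => cj_rev ((cj_mul e a1).trans (ww φ))⟩

theorem nF (a : HH φ) {r : El DA} (hr : r ∈ aF) : ∃ r' ∈ aF, a * φ r * (a : G)⁻¹ = φ r' := by
  obtain ⟨a, a1, a2⟩ := a
  simp only [aF, List.mem_cons, List.not_mem_nil, or_false] at hr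
  rcases hr with rfl | rfl | rfl | rfl
  · exact ⟨1, by simp [aF], by simp⟩
  · exact ⟨mw, by simp [aF], a1⟩
  · exact a2.elim (fun e => ⟨my, by simp [aF], e⟩) fun e => ⟨my * mw, by simp [aF], e.trans (map_mul φ _ _).symm⟩
  · rw [map_mul]
    exact a2.elim (fun e => ⟨my * mw, by simp [aF], (cj_mul e a1).trans (map_mul φ _ _).symm⟩) fun e =>
      ⟨my, by simp [aF], (cj_mul e a1).trans (ww φ)⟩

/-- `θ` has the four-group as kernel -/
def Cv {X : Type*} [Group X] (θ : HH φ →* X) : Prop := ∀ a b, θ a = θ b ↔ ∃ r ∈ aF, (a : G) = b * φ r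

theorem Cv.comp {X Y : Type*} [Group X] [Group Y] {θ : HH φ →* X} (h : Cv θ) {e : X →* Y}
    (he : Function.Injective e) : Cv (e.comp θ) := fun a b => he.eq_iff.trans (h a b)

theorem exists_cv (φ : El DA →* G) : ∃ (X : Type u) (_ : Group X) (θ : HH φ →* X), Function.Surjective θ ∧ Cv θ := by
  let N : Subgroup (HH φ) :=
    { carrier := {a | ∃ r ∈ aF, (a : G) = φ r}
      one_mem' := ⟨1, by simp [aF], by simp⟩
      mul_mem' := fun ⟨r, hr, e⟩ ⟨r', hr', e'⟩ => ⟨r * r', (f_F r hr).2.2.2.2.2.2.2 r' hr', by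
        rw [map_mul, ← e, ← e']; rfl⟩
      inv_mem' := fun ⟨r, hr, e⟩ => ⟨r⁻¹, (f_F r hr).1, by rw [map_inv, ← e]; rfl⟩ }
  haveI : N.Normal := ⟨fun n ⟨r, hr, e⟩ a => (nF a hr).imp fun r' h => ⟨h.1, by rw [← h.2, ← e]; rfl⟩⟩
  refine ⟨_, inferInstance, QuotientGroup.mk' N, QuotientGroup.mk'_surjective _, fun a b => ?_⟩
  rw [eq_comm, QuotientGroup.mk'_apply, QuotientGroup.mk'_apply, QuotientGroup.eq]
  exact exists_congr fun r => and_congr_right fun _ => inv_mul_eq_iff_eq_mul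

/-- elements of the stabiliser -/
noncomputable def el (φ : El DA →* G) (r : El DA) (hr : r * mw = mw * r := by decide +kernel) : HH φ :=
  ⟨φ r, cj_fix (by rw [← map_mul, hr, map_mul]), (f_nF r hr).imp (fun e => by
    rw [← map_inv, ← map_mul, ← map_mul, e]) fun e => by rw [← map_inv, ← map_mul, ← map_mul, e, map_mul]⟩

namespace AD

theorem cD (h : AD φ f g) {r : El DA} (hr : isD r) : IsConj 𝐳 (φ r) := by
  rcases hr with rfl | ⟨t, rfl⟩ | ⟨t, rfl⟩ | ⟨t, rfl⟩
  exacts [IsConj.refl _, h.zv.trans (CM.cj t _), h.zb.trans (CM.cj t _), h.zt.trans (CM.cj t _)]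

theorem cE (h : AD φ f g) {r : El DA} (hr : isE r := by decide +kernel) : ¬ IsConj 𝐳 (φ r) := fun e => by
  rcases hr with ⟨t, rfl⟩ | ⟨t, rfl⟩
  exacts [h.nw (e.trans (CM.cj t _).symm), h.nw ((e.trans (CM.cj t _).symm).trans h.wk.symm)]

/-- the element of order three -/
noncomputable def ee (h : AD φ f g) : HH φ := ⟨f * g, h.ea, Or.inl h.ea⟩

theorem ej (h : AD φ f g) : h.ee * el φ mj * h.ee⁻¹ = el φ (mw * mt) := Subtype.ext h.ea

theorem ej' (h : AD φ f g) : h.ee⁻¹ * el φ mj * h.ee = el φ A8R.mk := Subtype.ext (by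
  have := cj_rev (h.ea (y := A8R.mk) (y' := mj))
  rwa [inv_inv] at this)

theorem e3 (h : AD φ f g) (fg : f * g * f⁻¹ = g) : h.ee * h.ee * h.ee = 1 := Subtype.ext (by
  have := (show Commute f g from comm_of_cj fg).mul_pow 3
  rwa [pow_three', pow_three', pow_three', h.f3, h.g3, one_mul] at this)

theorem se (h : AD φ f g) (fg : f * g * f⁻¹ = g) : el φ ms * h.ee * el φ ms = h.ee⁻¹ := Subtype.ext (by
  have cg : 𝐜 * g * 𝐜⁻¹ = g⁻¹ := by rw [show 𝐜⁻¹ = 𝐜 from mdl h.inj, h.cg]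
  have uf : 𝐮 * f * 𝐮⁻¹ = f⁻¹ := by rw [show 𝐮⁻¹ = 𝐮 from mdl h.inj, h.uf]
  have := cj_cj (cj_mul uf (cj_fix (comm_of_cj h.gu).symm)) (cj_mul (cj_inv (cj_fix (comm_of_cj h.fc).symm)) cg)
  rw [show (𝐜 * 𝐮)⁻¹ = 𝐬 from mdl h.inj, show 𝐜 * 𝐮 = 𝐬 from mdl h.inj, ← mul_inv_rev, ← comm_of_cj fg] at this
  exact this)

theorem lift (h : AD φ f g) {X : Type*} [Group X] {θ : HH φ →* X} (hθ : Cv θ) (a k : HH φ) (ha : ¬ IsConj 𝐳 a)
    (e : θ a = θ (k * el φ mj * k⁻¹)) : a = k * el φ mj * k⁻¹ := by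
  obtain ⟨r, hr, e⟩ := (hθ _ _).1 e
  obtain ⟨r', hr', e'⟩ := nF k⁻¹ hr
  have e1 : (a : G) = k * (𝐣 * φ r') * (k : G)⁻¹ := by
    rw [e, ← e']; simp only [coe_mul, coe_inv, el]; group
  rcases (f_F r' hr').2.2.2.2.2.2.1 with rfl | H
  · exact Subtype.ext (by rw [e1, map_one, mul_one]; rfl)
  · exact absurd ((h.cD H).trans (cj_of (k : G) (by rw [e1, map_mul]))) ha

theorem cov [Finite G] (h : AD φ f g) (fg : f * g * f⁻¹ = g) : ∃ θ : HH φ →* El DS, Cv θ ∧ θ (el φ mj) = sz ∧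
    θ (el φ ms) = su ∧ θ h.ee = sf := by
  obtain ⟨θ, hθ⟩ : ∃ θ : HH φ →* El DS, Cv θ := by
    obtain ⟨X, _, π, sj, hπ⟩ := exists_cv φ
    haveI : Finite X := Finite.of_surjective _ sj
    have ne : ∀ r (hr : r * mw = mw * r), r ∉ aF → π (el φ r hr) ≠ 1 := fun r hr h1 e => by
      obtain ⟨r', hr', e⟩ := (hπ _ 1).1 (e.trans (map_one π).symm)
      exact h1 (h.inj (e.trans (one_mul _)) ▸ hr')
    have one : ∀ r (hr : r * mw = mw * r), r ∈ aF → π (el φ r hr) = 1 := fun r hr h1 =>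
      ((hπ _ 1).2 ⟨r, h1, (one_mul _).symm⟩).trans (map_one π)
    have two : ∀ r (hr : r * mw = mw * r), r ∉ aF → r * r = 1 → orderOf (π (el φ r hr)) = 2 :=
      fun r hr h1 h3 => Inv.two_of_mul_self (ne r hr h1) (by
        rw [← map_mul, show el φ r hr * el φ r hr = 1 from Subtype.ext (show φ r * φ r = 1 by
          rw [← map_mul, h3, map_one]), map_one])
    have z2 := two mj (by decide +kernel) (by decide +kernel) (by decide +kernel)
    have u2 := two ms (by decide +kernel) (by decide +kernel) (by decide +kernel)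
    have v2 := two A8R.mk (by decide +kernel) (by decide +kernel) (by decide +kernel)
    have vu : π (el φ A8R.mk) * π (el φ ms) = π (el φ (A8R.mk * ms)) := by
      rw [← map_mul]; exact congrArg π (Subtype.ext (map_mul φ _ _).symm)
    have pw : ∀ n : ℕ, π (el φ (A8R.mk * ms)) ^ n = π (el φ ((A8R.mk * ms) ^ n)
        ((show Commute (A8R.mk * ms) mw by unfold Commute SemiconjBy; decide +kernel).pow_left n).eq) := fun n => by
      rw [← map_pow]; exact congrArg π (Subtype.ext (map_pow φ _ _).symm)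
    have o4 : orderOf (π (el φ A8R.mk) * π (el φ ms)) = 4 := by
      rw [vu]
      refine orderOf_eq_prime_pow (p := 2) (n := 1) ?_ ?_
      · rw [pw]; exact ne _ _ (by decide +kernel)
      · rw [pw]; exact one _ _ (by decide +kernel)
    obtain ⟨e⟩ := S0206.result _ _ v2 u2 fun e => by
      rw [e, Inv.mul_self_of_two u2, orderOf_one] at o4
      exact absurd o4 (by decide)
    rw [o4] at e
    have hC : centralizer ({π (el φ mj)} : Set X) = closure {π (el φ A8R.mk), π (el φ ms)} := by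
      refine le_antisymm (fun c hc => ?_) ((closure_le _).2 ?_)
      · obtain ⟨c, rfl⟩ := sj c
        have e : c * 𝐣 * (c : G)⁻¹ = 𝐣 := by
          have := congrArg Subtype.val (h.lift hπ (c * el φ mj * c⁻¹) 1 (fun e => h.cE (r := mj) (by decide +kernel)
            (e.trans (cj_of (c : G) rfl).symm)) (by
            rw [one_mul, inv_one, mul_one, map_mul, map_mul, map_inv]; exact cj_fix (mem_cent.1 hc)))
          rwa [one_mul, inv_one, mul_one] at this
        obtain ⟨r, hr⟩ := (h.cent c).1 (comm_of_cj (by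
          rw [show 𝐳 = 𝐣 * 𝐰 from mdl h.inj]; exact cj_mul e c.2.1))
        obtain ⟨i, -, j, -, k, hk, rfl⟩ := f_cw r (h.inj (by rw [map_mul, map_mul, hr]; exact comm_of_cj c.2.1))
        have : c = (el φ A8R.mk * el φ ms) ^ i * el φ ms ^ j * el φ k (f_F k hk).2.1 := Subtype.ext (by
          rw [← hr]; simp only [map_mul, map_pow]; rfl)
        rw [this, map_mul, map_mul, map_pow, map_pow, map_mul, one k _ hk, mul_one]
        have a1 : π (el φ A8R.mk) ∈ closure {π (el φ A8R.mk), π (el φ ms)} := subset_closure (Or.inl rfl)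
        have a2 : π (el φ ms) ∈ closure {π (el φ A8R.mk), π (el φ ms)} := subset_closure (Or.inr rfl)
        exact mul_mem (pow_mem (mul_mem a1 a2) _) (pow_mem a2 _)
      · rintro _ (rfl | rfl) <;> refine mem_cent.2 ?_ <;> rw [← map_mul, ← map_mul]
        · exact congrArg π (Subtype.ext (show φ A8R.mk * 𝐣 = 𝐣 * φ A8R.mk from mdl h.inj))
        · exact congrArg π (Subtype.ext (show 𝐬 * 𝐣 = 𝐣 * 𝐬 from mdl h.inj))
    rw [← hC] at e
    obtain ⟨e'⟩ := exists_perm5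
    by_cases h2 : ∀ H : Subgroup X, H.index ≠ 2
    · obtain ⟨S, x, y, hd, hz, -⟩ := Dih.exists_sylow_of_cent z2 e
      obtain ⟨c, hc⟩ := isConj_iff.1 (hz ▸ Dih.one_class hd h2 u2)
      obtain ⟨c, rfl⟩ := sj c
      rw [← map_inv, ← map_mul, ← map_mul] at hc
      obtain ⟨r, hr, e⟩ := (hπ _ _).1 hc
      have c1 : IsConj 𝐳 (φ (ms * (r * mw))) := cj_of (c : G) (by
        rw [show 𝐳 = 𝐣 * 𝐰 from mdl h.inj, map_mul, map_mul, ← mul_assoc 𝐬]; exact cj_mul e c.2.1)
      exact absurd c1 (h.cE (Or.inl (f_sF _ ((f_F r hr).2.2.2.2.2.2.2 mw (by simp [aF]))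
        (h.inj (by rw [map_mul, map_one]; exact sq_of_cj (mdl h.inj) c1)))))
    push Not at h2
    obtain ⟨H, hH⟩ := h2
    rcases Dih.d8_of_index_two z2 e hH with H | ⟨⟨e⟩⟩ | ⟨⟨e⟩⟩
    · obtain ⟨c, hc, o, ho, e⟩ := mem_sup_of_normal_right.1 (H.ge (mem_top (π h.ee)))
      have n := (inferInstance : (oddCore X).Normal)
      have m := n.conj_mem _ (mul_mem ho (n.conj_mem _ (inv_mem ho) (π (el φ mj)))) c
      have e' : π (el φ A8R.mk) = c * (o * (π (el φ mj) * o⁻¹ * (π (el φ mj))⁻¹)) * c⁻¹ := by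
        calc _ = π h.ee * π (el φ mj) * (π h.ee)⁻¹ * (π (el φ mj))⁻¹ := by
              simp only [← map_inv, ← map_mul]
              rw [h.ej]
              exact congrArg π (Subtype.ext (show φ A8R.mk = φ (mw * mt) * 𝐣⁻¹ from mdl h.inj))
          _ = c * (o * (π (el φ mj) * o⁻¹ * (π (el φ mj))⁻¹)) * (π (el φ mj) * c⁻¹ * (π (el φ mj))⁻¹) := by
              rw [← e]; group
          _ = _ := by rw [cj_fix (mem_cent.1 (inv_mem hc)).symm]
      have := Inv.odd_orderOf_of_mem Inv.odd_card_oddCore m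
      rw [← e', v2] at this
      exact absurd this (by decide)
    · exact ⟨_, ((hπ.comp (e := e.toMonoidHom) e.injective).comp
        (Equiv.Perm.viaEmbeddingHom_injective (Fin.castSuccEmb (n := 4)))).comp (e := e'.symm.toMonoidHom)
        e'.symm.injective⟩
    · exact ⟨_, hπ.comp (e := (e.trans e'.symm).toMonoidHom) (e.trans e'.symm).injective⟩
  obtain ⟨k, gz, gu, gf⟩ := s_norm (θ (el φ mj))
    (by rw [← map_mul, show el φ mj * el φ mj = 1 from Subtype.ext (show 𝐣 * 𝐣 = 1 from mdl h.inj), map_one])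
    (θ (el φ ms))
    (by rw [← map_mul, show el φ ms * el φ ms = 1 from Subtype.ext (show 𝐬 * 𝐬 = 1 from mdl h.inj), map_one])
    (by rw [← map_mul, ← map_mul]; exact congrArg θ (Subtype.ext (show 𝐬 * 𝐣 = 𝐣 * 𝐬 from mdl h.inj)))
    (θ h.ee) (by rw [← map_mul, ← map_mul, h.e3 fg, map_one]) (by rw [← map_mul, ← map_mul, ← map_inv, h.se fg])
    (by
      rw [← map_inv, ← map_mul, ← map_mul, h.ej, Ne, hθ]
      rintro ⟨r, hr, e⟩
      exact (by decide +kernel : ∀ r ∈ aF, mw * mt ≠ mj * r) r hr (h.inj (e.trans (map_mul φ _ _).symm)))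
    (by
      simp only [← map_inv, ← map_mul]
      rw [h.ej, h.ej', ← map_one θ]
      exact congrArg θ (Subtype.ext (show 𝐣 * φ (mw * mt) * φ A8R.mk = 1 from mdl h.inj)))
  exact ⟨_, hθ.comp (e := (MulAut.conj k).toMonoidHom) (MulAut.conj k).injective, gz, gu, gf⟩

end AD

end Cfsg.Agent.A8R
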