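import Cfsg.Agent.M12R.Gen
import Cfsg.Agent.PLocal.LX3
import Cfsg.Agent.FGS.BHM

/-!
# A8R/Wd: the case of a normal elementary abelian subgroup of order eight
-/

set_option autoImplicit false

namespace Cfsg.Agent.A8R

open Cfsg.Agent.Comp Cfsg.Agent.Core Cfsg.Agent.M12R Subgroup Matrix
open scoped MatrixGroups

theorem gl_psl : Nonempty (GL (Fin 3) (ZMod 2) ≃* PSL(3, ZMod 2)) := by
  haveI : Fact (Nat.Prime 7) := ⟨by norm_num⟩
  obtain ⟨⟨e1⟩, ⟨e2⟩⟩ := Dih.psl3_two_equiv (F := ZMod 7) (K := ZMod 2) (ZMod.card 7) (ZMod.card 2)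
  let e' : SL(3, ZMod 2) ≃* GL (Fin 3) (ZMod 2) := MulEquiv.ofBijective SpecialLinearGroup.toGL
    ⟨SpecialLinearGroup.toGL_injective, fun g => ⟨⟨g.1, by
      have := g.det_ne_zero
      generalize g.1.det = a at this
      revert a; decide⟩, Units.ext rfl⟩⟩
  exact ⟨e'.symm.trans (e2.symm.trans e1)⟩

theorem quot0 {G : Type*} [Group G] [Finite G] {N : Subgroup G} [N.Normal] [IsMulCommutative N] (h2 : ∀ n ∈ N, n ^ 2 = 1)
    (h8 : Nat.card N = 8) (hk : (MulAut.conjNormal (H := N)).ker = N) (hG : Nat.card (G ⧸ N) = 168) :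
    Nonempty (G ⧸ N ≃* PSL(3, ZMod 2)) := by
  have h168 : Nat.card (GL (Fin 3) (ZMod 2)) = 168 := by
    rw [Matrix.card_GL_field]; simp [Fin.prod_univ_succ]
  obtain ⟨e⟩ := PLocal.mulAut_equiv_gl (V := N) (p := 2) (n := 3) (fun v => Subtype.ext (h2 v v.2)) (by rw [h8]; rfl)
  obtain ⟨e'⟩ := gl_psl
  obtain ⟨f, hf⟩ : ∃ f : G ⧸ N →* MulAut N, Function.Injective f :=
    ⟨QuotientGroup.lift N MulAut.conjNormal hk.ge, (injective_iff_map_eq_one _).2 fun a ha => by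
      obtain ⟨a, rfl⟩ := QuotientGroup.mk_surjective a
      exact (QuotientGroup.eq_one_iff a).2 (hk.le ha)⟩
  have hb := hf.bijective_of_nat_card_le (by rw [Nat.card_congr e.toEquiv, h168, hG])
  exact ⟨(MulEquiv.ofBijective f hb).trans (e.trans e')⟩

theorem quot {G : Type*} [Group G] [Finite G] {M : Type} [Group M] {φ : M →* G} {z : M} {W : List M} (h : WD φ z W)
    (hM : Nat.card M = 192) (hW : W.Nodup) (hl : W.length = 8) (hC : ∀ c, (∀ y ∈ W, c * y = y * c) → c ∈ W) :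
    ∃ (N : Subgroup G) (_ : N.Normal), IsMulCommutative N ∧ (∀ n ∈ N, n ^ 2 = 1) ∧ Nat.card N = 8 ∧
      Nonempty (G ⧸ N ≃* PSL(3, ZMod 2)) := by
  classical
  obtain ⟨N, mem⟩ : ∃ N : Subgroup G, ∀ g, g ∈ N ↔ ∃ y ∈ W, φ y = g :=
    ⟨{ carrier := {g | ∃ y ∈ W, φ y = g}
       one_mem' := ⟨1, h.one_mem, map_one φ⟩
       mul_mem' := by
        rintro _ _ ⟨a, ha, rfl⟩ ⟨b, hb, rfl⟩
        exact ⟨_, (h.mul a ha b hb).2, map_mul φ _ _⟩
       inv_mem' := by
        rintro _ ⟨a, ha, rfl⟩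
        exact ⟨a, ha, by rw [← map_inv, inv_eq_of_mul_eq_one_right (h.sqW a ha)]⟩ }, fun _ => Iff.rfl⟩
  haveI hN : N.Normal := ⟨fun n hn g => by
    obtain ⟨a, ha, rfl⟩ := (mem n).1 hn
    by_cases a1 : a = 1
    · simpa [a1] using N.one_mem
    · exact (mem _).2 (h.all ((h.sup a ha a1).trans (cj_of g rfl)))⟩
  have hc : ∀ a ∈ N, ∀ b ∈ N, a * b = b * a := fun a ha b hb => by
    obtain ⟨a, ha', rfl⟩ := (mem a).1 ha
    obtain ⟨b, hb', rfl⟩ := (mem b).1 hb
    rw [← map_mul, (h.mul a ha' b hb').1, map_mul]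
  haveI : IsMulCommutative N := ⟨⟨fun a b => Subtype.ext (hc a a.2 b b.2)⟩⟩
  have h2 : ∀ n ∈ N, n ^ 2 = 1 := fun a ha => by
    obtain ⟨a, ha', rfl⟩ := (mem a).1 ha
    rw [sq, ← map_mul, h.sqW a ha', map_one]
  have e8 : (N : Set G).ncard = 8 := by
    rw [show (N : Set G) = (W.map φ).toFinset by ext; simp [mem], Set.ncard_coe_finset,
      List.toFinset_card_of_nodup (hW.map h.inj), List.length_map, hl]
  have h8 : Nat.card N = 8 := by rw [← e8, ← Nat.card_coe_set_eq]; rfl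
  refine ⟨N, hN, inferInstance, h2, h8, ?_⟩
  have hz := h.sub z (IsConj.refl _)
  have hk : (MulAut.conjNormal (H := N)).ker = N := by
    ext g
    rw [MonoidHom.mem_ker]
    refine ⟨fun e => ?_, fun hg => MulEquiv.ext fun n => Subtype.ext ?_⟩
    · have k : ∀ y ∈ W, g * φ y = φ y * g := fun y hy =>
        comm_of_cj (by simpa using congrArg Subtype.val (DFunLike.congr_fun e (⟨φ y, (mem _).2 ⟨y, hy, rfl⟩⟩ : N)))
      obtain ⟨c, rfl⟩ := (h.cent g).1 (k z hz)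
      exact (mem _).2 ⟨c, hC c fun y hy => h.inj (by rw [map_mul, map_mul, k y hy]), rfl⟩
    · simpa using cj_fix (hc g hg n n.2)
  have h7 : (centralizer ({φ z} : Set G)).index = 7 := by
    have : {b | IsConj (φ z) b} = (N : Set G) \ {1} := Set.ext fun b => ⟨fun hb => ⟨(mem _).2 (h.all hb), fun e => by
      rw [show b = 1 from e, Set.mem_setOf_eq, isConj_one_left, map_eq_one_iff _ h.inj] at hb
      exact h.z1 hb⟩, fun ⟨e0, e1⟩ => by
      obtain ⟨y, hy, rfl⟩ := (mem b).1 e0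
      exact h.sup y hy fun e2 => e1 (by rw [e2, map_one]; rfl)⟩
    rw [← FGS.ncard_isConj, this, Set.ncard_diff_singleton_of_mem N.one_mem, e8]
  have hG := (centralizer ({φ z} : Set G)).card_mul_index
  have h192 : Nat.card (centralizer ({φ z} : Set G)) = 192 := by
    rw [← h.toCM.range_eq, ← hM]
    exact (Nat.card_congr (MonoidHom.ofInjective h.inj).toEquiv).symm
  rw [h7, h192, card_eq_card_quotient_mul_card_subgroup N, h8] at hG
  exact quot0 h2 h8 hk (by omega)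

end Cfsg.Agent.A8R
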