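import Cfsg.Agent.A8R.Cw
import Cfsg.Agent.A8R.Wd
import Cfsg.Agent.M12R.Main
import Cfsg.Agent.H2.Carm

/-!
# A8R/Main: recognition of `A₈` and `A₉`
-/

set_option autoImplicit false
set_option maxRecDepth 100000

namespace Cfsg.Agent.A8R

open Cfsg.Agent.Comp Cfsg.Agent.Core Cfsg.Agent.M12R Subgroup

variable {G : Type*} [Group G] {φ : El DA →* G} {f g : G}

theorem AD.top [Finite G] (h : AD φ f g) (fg : f * g * f⁻¹ = g) {H : Subgroup G} (hL : φ.range ≤ H) (hf : f ∈ H)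
    (hg : g ∈ H) (hC : HH φ ≤ H) : H = ⊤ := by
  have m : ∀ y, φ y ∈ H := fun y => hL ⟨y, rfl⟩
  have zz : 𝐳 * 𝐳 = 1 := mdl h.inj
  have cj : ∀ t a : El DA, φ t * φ a * (φ t)⁻¹ = φ (t * a * t⁻¹) := fun t a => by simp only [map_mul, map_inv]
  have A : ∀ y : El DA, y * y = 1 → y = 1 ∨ (∃ k ∈ H, k * 𝐳 * k⁻¹ = φ y) ∨ ∃ k ∈ H, k * 𝐰 * k⁻¹ = φ y := fun y hy => by
    rcases f_inv y hy with rfl | rfl | ⟨t, rfl⟩ | ⟨t, rfl⟩ | ⟨t, rfl⟩ | ⟨t, rfl⟩ | ⟨t, rfl⟩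
    · exact Or.inl rfl
    · exact Or.inr (Or.inl ⟨1, one_mem _, by group⟩)
    · exact Or.inr (Or.inl ⟨_, mul_mem (m t) hf, cj_cj h.fz (cj t mv)⟩)
    · exact Or.inr (Or.inl ⟨_, mul_mem (m t) hg, cj_cj h.gz (cj t mb)⟩)
    · exact Or.inr (Or.inr ⟨_, m t, cj t mw⟩)
    · exact Or.inr (Or.inl ⟨_, mul_mem (m t) (mul_mem hf hg), cj_cj h.ea (cj t mt)⟩)
    · exact Or.inr (Or.inr ⟨_, mul_mem (m t) (mul_mem (m mc) hf),
        cj_cj (cj_cj (h.fa (y' := mc⁻¹ * A8R.mk * mc)) (mdl h.inj)) (cj t A8R.mk)⟩)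
  have B : ∀ e, e * e = 1 → e * 𝐰 = 𝐰 * e → e = 1 ∨ (∃ k ∈ H, k * 𝐳 * k⁻¹ = e) ∨ ∃ k ∈ H, k * 𝐰 * k⁻¹ = e :=
    fun e ee he => by
    obtain ⟨k, r, -, e1⟩ := h.inv fg ⟨e, h.cw fg he⟩ (Subtype.ext ee)
    have e2 := cj_rev e1
    have hk := inv_mem (hC k.2)
    refine (A r (h.inj (by rw [map_mul, map_one, ← e1]; exact cj_sq ee _))).imp (fun e => ?_)
      (Or.imp (fun ⟨k', hk', e⟩ => ⟨_, mul_mem hk hk', cj_cj e e2⟩) fun ⟨k', hk', e⟩ => ⟨_, mul_mem hk hk', cj_cj e e2⟩)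
    rw [e, map_one, conj_eq_one_iff] at e1
    exact e1
  have C : ∀ e, IsConj 𝐳 e → (e = 1 ∨ (∃ k ∈ H, k * 𝐳 * k⁻¹ = e) ∨ ∃ k ∈ H, k * 𝐰 * k⁻¹ = e) →
      ∃ k ∈ H, k * 𝐳 * k⁻¹ = e := by
    rintro e he (rfl | H | ⟨k, -, hk⟩)
    · rw [isConj_one_left] at he
      exact absurd he (mdl h.inj)
    · exact H
    · exact absurd (he.trans (cj_of k hk).symm) h.nw
  rw [eq_top_iff]
  intro g _
  have he : IsConj 𝐳 (g * 𝐳 * g⁻¹) := cj_of g rfl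
  obtain ⟨k, hk, e⟩ : ∃ k ∈ H, k * 𝐳 * k⁻¹ = g * 𝐳 * g⁻¹ := by
    generalize g * 𝐳 * g⁻¹ = e at he
    rcases Inv.isConj_or_exists_central (sq_of_cj zz he) (show 𝐰 * 𝐰 = 1 from mdl h.inj) with
      ⟨a, -, ha⟩ | ⟨c, -, c2, c3, c4⟩
    · exact absurd (he.trans (cj_of a ha)) h.nw
    have D : ∀ k ∈ H, ∀ a, k * a * k⁻¹ = c → (∀ e, IsConj 𝐳 e → e * a = a * e → ∃ k ∈ H, k * 𝐳 * k⁻¹ = e) →
        ∃ k ∈ H, k * 𝐳 * k⁻¹ = e := fun k hk a ha H' => by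
      obtain ⟨k', hk', e'⟩ := H' (k⁻¹ * e * k⁻¹⁻¹) (he.trans (cj_of _ rfl)) (by
        have := cj_comm c3.eq.symm k⁻¹
        rwa [← ha, show k⁻¹ * (k * a * k⁻¹) * k⁻¹⁻¹ = a by group] at this)
      exact ⟨_, mul_mem hk hk', cj_cj e' (by group)⟩
    rcases B c (Inv.mul_self_of_two c2) c4.eq with rfl | ⟨k, hk, e1⟩ | ⟨k, hk, e1⟩
    · exact absurd rfl (Inv.ne_one_of_two c2)
    · refine D k hk _ e1 fun e he hc => C e he ?_
      obtain ⟨y, rfl⟩ := (h.cent e).1 hc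
      exact (A y (h.inj (by rw [map_mul, map_one]; exact sq_of_cj zz he))).imp_left fun e => by rw [e, map_one]
    · exact D k hk _ e1 fun e he hc => C e he (B e (sq_of_cj zz he) hc)
  obtain ⟨l, hl⟩ := (h.cent (k⁻¹ * g)).1 (comm_of_cj (by
    calc _ = k⁻¹ * (g * 𝐳 * g⁻¹) * k := by group
      _ = _ := by rw [← e]; group))
  rw [show g = k * φ l by rw [hl]; group]
  exact mul_mem hk (m l)

/-- words in three-cycles -/
def wA : List (List ℕ) := [[5, 4, 0, 1, 3, 2, 1, 0], [4, 5, 0, 1, 2, 3, 1, 0], [2, 3, 0, 1, 4, 5, 1, 0],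
  [3, 2, 0, 1, 5, 4, 1, 0], [1, 0, 3, 2, 5, 4, 1, 0], [1, 0, 5, 4, 3, 2, 1, 0], [3, 2, 4, 5, 3, 2, 0, 1, 1, 0],
  [2, 5, 5, 3, 1, 2], [3, 2, 5, 3, 2, 1], [5, 2, 3, 5, 2, 1], [2, 3, 3, 5, 1, 2], [4, 2, 6, 3, 4, 2, 0, 1, 1, 0]]

/-- the letters in the alternating groups -/
def sA (n i : ℕ) : alternatingGroup (Fin (n + 2)) :=
  ev (fun j => if h : j < n then H2.Carm.cyc (a := 0) (b := 1) zero_ne_one ⟨⟨j + 2, by omega⟩,
    Fin.ne_of_val_ne (by simp), Fin.ne_of_val_ne (by simp)⟩ else 1) (wA.getD i [])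

theorem gen_sA {n L : ℕ} (H : ∀ c : Fin (n + 2), 0 ≠ c → 1 ≠ c → ∃ w ∈ [[9, 2, 7, 1], [10, 7], [1, 5, 10, 8, 4, 0],
    [5, 10, 7, 4], [4, 9, 2, 7, 1, 5], [4, 10, 7, 5], [1, 11, 1]], (∀ i ∈ w, i < L) ∧
    Equiv.swap 0 c * Equiv.swap 0 1 = (ev (sA n) w).1) : gen (sA n) L = ⊤ := by
  rw [eq_top_iff, ← H2.Carm.closure_cyc (a := 0) (b := 1) zero_ne_one, closure_le]
  rintro _ ⟨c, rfl⟩
  obtain ⟨w, -, h1, h2⟩ := H c c.2.1 c.2.2
  rw [show H2.Carm.cyc zero_ne_one c = ev (sA n) w from Subtype.ext h2]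
  exact ev_mem fun a ha => letter_mem_gen (h1 a ha)

theorem card_alt {n k : ℕ} (h : (n + 2).factorial = 2 * k) : Nat.card (alternatingGroup (Fin (n + 2))) = k := by
  have := two_mul_nat_card_alternatingGroup (α := Fin (n + 2))
  rw [Nat.card_perm, Nat.card_fin] at this
  omega

theorem range_le (φ : El DA →* G) (f g d : G) {L : ℕ} (hL : 7 ≤ L) : φ.range ≤ gen (xs φ f g d) L := by
  rw [MonoidHom.range_eq_map, ← El.gen_l, map_genW, gen_le]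
  exact fun i hi => xs_l φ f g d hi ▸ letter_mem_gen (lt_of_lt_of_le hi hL)

theorem cardLe_8 {c : ℕ → G} (h : Sat c (RDA ++ R8)) : CardLe (gen c 11) 20160 :=
  (CardLe.step (cardLe_nil c) (TCDA.index _ c (h.mono fun _ hw => List.mem_append_left _ hw))).step (TC8.index _ c h)

theorem AD.iso [Finite G] (h : AD φ f g) :
    Nonempty (G ≃* alternatingGroup (Fin 8)) ∨ Nonempty (G ≃* alternatingGroup (Fin 9)) := by
  obtain ⟨g, h, fg⟩ := h.norm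
  have T : ∀ d L, 11 ≤ L → f ∈ gen (xs φ f g d) L ∧ g ∈ gen (xs φ f g d) L := fun d L hL =>
    ⟨letter_mem_gen (x := 7) (by omega), letter_mem_gen (x := 9) (by omega)⟩
  rcases h.dich2 fg with H | ⟨d, d1, d2, d3, d4, H⟩
  · haveI : IsSimpleGroup (alternatingGroup (Fin 8)) := alternatingGroup.isSimpleGroup (by simp)
    obtain ⟨e⟩ := equiv_gen (L := 11) (R := RDA ++ R8) (by decide +kernel) (cardLe_8 (presS_sat 11 _))
      (card_alt (n := 6) (by decide)) (show ∀ w ∈ RDA ++ R8, ev (sA 6) w = 1 by decide +kernel)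
      (gen_sA (by decide +kernel)) (h.sat fg 1) (x := 6) (by decide) (show 𝐭 ≠ 1 from mdl h.inj)
    obtain ⟨t1, t2⟩ := T 1 11 le_rfl
    have r := range_le φ f g 1 (L := 11) (by decide)
    exact Or.inl ⟨(topEquiv.symm.trans (MulEquiv.subgroupCongr
      (h.top fg r t1 t2 (H _ r (mul_mem t1 t2))).symm)).trans e⟩
  · haveI : IsSimpleGroup (alternatingGroup (Fin 9)) := alternatingGroup.isSimpleGroup (by simp)
    obtain ⟨e⟩ := equiv_gen (L := 12) (R := RDA ++ R8 ++ R9) (by decide +kernel)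
      ((cardLe_8 ((presS_sat 12 _).mono fun _ hw => List.mem_append_left _ hw)).step (TC9.index _ _ (presS_sat 12 _)))
      (card_alt (n := 7) (by decide)) (show ∀ w ∈ RDA ++ R8 ++ R9, ev (sA 7) w = 1 by decide +kernel)
      (gen_sA (by decide +kernel)) ((h.sat fg d).append fun w hw => by
        rw [show 𝐳 = φ mp * φ mp from mdl h.inj] at d2
        rw [show φ mo = 𝐱 * φ mq from mdl h.inj, mul_inv_rev, ← mul_left_inj d, d1] at d4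
        simp only [mul_assoc] at d2 d3 d4
        simp only [R9, List.mem_cons, List.not_mem_nil, or_false] at hw
        rcases hw with rfl | rfl | rfl | rfl <;>
          simp only [ev_cons, ev_nil, xs, List.getD_cons_succ, List.getD_cons_zero, mul_one]
        exacts [d1, d2, d3, d4]) (x := 6) (by decide) (show 𝐭 ≠ 1 from mdl h.inj)
    obtain ⟨t1, t2⟩ := T d 12 (by decide)
    have r := range_le φ f g d (L := 12) (by decide)
    exact Or.inr ⟨(topEquiv.symm.trans (MulEquiv.subgroupCongr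
      (h.top fg r t1 t2 (H _ r (mul_mem t1 t2) (letter_mem_gen (x := 11) (by decide)))).symm)).trans e⟩

theorem main [Finite G] (H : (∃ φ : El DL →* G, CM φ M12R.mz ∧ IsConj (φ M12R.mz) (φ M12R.mv)) ∨
    ∃ φ : El DA →* G, CM φ mz ∧ ∃ y, y ≠ mz ∧ IsConj 𝐳 (φ y) ∧ (y * (mx * y * mx⁻¹)) ^ 4 = 1) :
    (∃ (N : Subgroup G) (_ : N.Normal), IsMulCommutative N ∧ (∀ n ∈ N, n ^ 2 = 1) ∧ Nat.card N = 8 ∧
      Nonempty (G ⧸ N ≃* Matrix.ProjectiveSpecialLinearGroup (Fin 3) (ZMod 2))) ∨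
    Nonempty (G ≃* alternatingGroup (Fin 8)) ∨ Nonempty (G ≃* alternatingGroup (Fin 9)) ∨ Spor.IsoM12 G := by
  rcases H with ⟨φ, h, hc⟩ | ⟨φ, h, y, y1, y2, y3⟩
  · rcases M12R.main h hc with H | H
    · exact Or.inl (quot H El.card_El (by decide +kernel) rfl (by decide +kernel))
    · exact Or.inr (Or.inr (Or.inr H))
  · rcases fus h y1 y2 y3 with ⟨ψ, H⟩ | ⟨ψ, f, g, H⟩
    · exact Or.inl (quot H El.card_El (by decide +kernel) rfl f_W5)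
    · exact Or.inr (H.iso.imp_right Or.inl)

end Cfsg.Agent.A8R
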