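import Cfsg.Agent.A8R.Fus

/-!
# A8R/Rel: relations between the parabolic subgroups
-/

set_option autoImplicit false
set_option maxRecDepth 100000

namespace Cfsg.Agent.A8R

open Cfsg.Agent.Comp Cfsg.Agent.Core Cfsg.Agent.M12R Subgroup

variable {G : Type*} [Group G] {φ : El DA →* G} {f g : G}

theorem inv3 {a k : G} (aa : a * a = 1) (e : a * k * a = k⁻¹) (k3 : k * k * k = 1) :
    a * k⁻¹ * (a * k⁻¹) = 1 ∧ k⁻¹ * a * k⁻¹⁻¹ = a * k⁻¹ := by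
  have e' : a * k⁻¹ * a = k := by
    rw [← e]; simp only [mul_assoc, ← mul_assoc a a, aa, one_mul, mul_one]
  refine ⟨by rw [← mul_assoc, e', mul_inv_cancel], ?_⟩
  calc _ = a * a * k⁻¹ * a * k := by rw [aa, one_mul, inv_inv]
    _ = a * (a * k⁻¹ * a * k) := by simp only [mul_assoc]
    _ = _ := by rw [e', eq_inv_of_mul_eq_one_left k3]

namespace AD

theorem ea (h : AD φ f g) {y y' : El DA} (hy : ap mz mv mb mt y = y ∧
    ap mz mv mb mt (ap mb mt (mb * mz) (mv * mt) y) = ap mb mt (mb * mz) (mv * mt) y ∧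
    ap mv (mv * mz) mt (mb * mt) (ap mb mt (mb * mz) (mv * mt) y) = y' := by decide +kernel) :
    f * g * φ y * (f * g)⁻¹ = φ y' := cj_cj (h.ga ⟨hy.1, rfl⟩) (h.fa hy.2)

theorem nw (h : AD φ f g) : ¬ IsConj 𝐳 𝐰 := fun hc => by
  obtain ⟨k, hk⟩ := isConj_iff.1 hc
  have e1 : f * g * 𝐰 * (f * g)⁻¹ = 𝐰 := h.ea
  have e2 : f * g * φ my * (f * g)⁻¹ = φ my := h.ea
  have e3 : f * g * 𝐳 * (f * g)⁻¹ = 𝐭 := h.ea
  have e4 : f * g * 𝐭 * (f * g)⁻¹ = φ (mz * mv * mb * mt) := h.ea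
  have e5 : f * g * φ (mz * mv * mb * mt) * (f * g)⁻¹ = 𝐳 := h.ea
  generalize f * g = e at e1 e2 e3 e4 e5
  obtain ⟨o, ho⟩ := h.pull (g := k) (y := e) (by rw [hk]; exact comm_of_cj e1)
  obtain ⟨c, hc⟩ := h.pull (g := k) (y := φ my) (by rw [hk]; exact mdl h.inj)
  have hc' : k * φ c * k⁻¹ = φ my := by rw [hc]; group
  have := congrArg φ (f_two c (h.sq hc (mdl h.inj)) (fun e => by
    rw [e, map_one, mul_one, mul_inv_cancel] at hc'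
    exact absurd hc'.symm (mdl h.inj)) (fun e => by
    rw [e, hk] at hc'
    exact absurd hc' (mdl h.inj)) o (h.inj (by
    rw [map_mul, map_mul, ho, hc]; simpa only [inv_inv] using cj_comm (comm_of_cj e2) k⁻¹)))
  rw [map_pow, ho, map_one] at this
  have e6 : e * (e * (e * e)) = 1 := by
    calc _ = k * (k⁻¹ * e * k) ^ 4 * k⁻¹ := by
          simp only [pow_succ, pow_zero, one_mul, mul_assoc, mul_inv_cancel_left, mul_inv_cancel, mul_one]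
      _ = 1 := by rw [this, mul_one, mul_inv_cancel]
  have := cj_cj (cj_cj (cj_cj e3 e4) e5) e3
  rw [e6, one_mul, inv_one, mul_one] at this
  exact absurd this (mdl h.inj)

theorem norm (h : AD φ f g) : ∃ g, AD φ f g ∧ f * g * f⁻¹ = g := by
  have T : ∀ y' y : El DA, f * g * φ y' * (f * g)⁻¹ = φ y → (ap mz mv mb mt y' = y' ∧
      ap mz mv mb mt (ap mv (mv * mz) mt (mb * mt) y') = ap mv (mv * mz) mt (mb * mt) y' ∧
      ap mb mt (mb * mz) (mv * mt) (ap mv (mv * mz) mt (mb * mt) y') = y) →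
      f * g * (g * f)⁻¹ * φ y = φ y * (f * g * (g * f)⁻¹) := fun y' y a c =>
    comm_of_cj (cj_cj (cj_rev (cj_cj (h.fa ⟨c.1, rfl⟩) (h.ga c.2))) a)
  obtain ⟨a, ha⟩ := (h.cent _).1 (T (mz * mv * mb * mt) mz h.ea (by decide +kernel))
  have T' : ∀ y, f * g * (g * f)⁻¹ * φ y = φ y * (f * g * (g * f)⁻¹) → a * y = y * a := fun y e =>
    h.inj (by rw [map_mul, map_mul, ha, e])
  obtain ⟨a1, a2, a3, a4⟩ := f_CA a (T' _ (T (mz * mb) mv h.ea (by decide +kernel)))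
    (T' _ (T (mv * mz) mb h.ea (by decide +kernel))) (T' _ (T mz mt h.ea (by decide +kernel)))
  have ai : (f * g * (g * f)⁻¹)⁻¹ = φ a := by
    rw [← ha, ← map_inv, inv_eq_of_mul_eq_one_right a1]
  have cg : 𝐜 * g * 𝐜⁻¹ = g⁻¹ := by rw [show 𝐜⁻¹ = 𝐜 from mdl h.inj, h.cg]
  have uf : 𝐮 * f * 𝐮⁻¹ = f⁻¹ := by rw [show 𝐮⁻¹ = 𝐮 from mdl h.inj, h.uf]
  have cf : 𝐜 * f * 𝐜⁻¹ = f := cj_fix (comm_of_cj h.fc).symm
  have ug : 𝐮 * g * 𝐮⁻¹ = g := cj_fix (comm_of_cj h.gu).symm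
  rcases a4 (h.inj (Eq.trans (by
    rw [← act h.gz h.gv (h.gb.trans (mdl h.inj)) h.gt ⟨a2, rfl⟩, map_mul, map_mul, map_inv, ha,
      cj_mul (cj_mul cf cg) (cj_inv (cj_mul cg cf))]; group) ai)) (h.inj (Eq.trans (by
    rw [← h.fa ⟨a3, rfl⟩, map_mul, map_mul, map_inv, ha,
      cj_mul (cj_mul uf ug) (cj_inv (cj_mul ug uf))]; group) ai)) with rfl | rfl
  · refine ⟨g, h, ?_⟩
    calc _ = f * g * (g * f)⁻¹ * g := by group
      _ = _ := by rw [← ha, map_one, one_mul]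
  have Z : ∀ {y y' : El DA}, g * φ y * g⁻¹ = φ y' → 𝐳 * g * 𝐳⁻¹ * φ y * (𝐳 * g * 𝐳⁻¹)⁻¹ = φ y' := fun e =>
    cj_cj (cj_rev (cj_fix (h.comm _).symm)) (cj_cj e (cj_fix (h.comm _).symm))
  refine ⟨𝐳 * g * 𝐳⁻¹, ⟨h.toK1, ?_, ?_, Z h.gz, Z h.gb, Z h.gu, Z h.gt, Z h.gv⟩, ?_⟩
  · rw [← cj_mul rfl rfl, ← cj_mul rfl rfl, h.g3]; simp
  · rw [← cj_fix (h.comm mc).symm, ← cj_mul rfl rfl, ← cj_mul rfl rfl, h.cg]; group
  · calc _ = f * 𝐳 * f⁻¹ * (f * g * (g * f)⁻¹) * (g * (f * 𝐳 * f⁻¹) * g⁻¹)⁻¹ * g := by group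
      _ = 𝐳 * (g * 𝐳 * g⁻¹)⁻¹ * g := by
        rw [h.fz, h.gv, ← ha, h.gz]; congr 1; exact mdl h.inj
      _ = _ := by group

theorem braid (h : AD φ f g) {s : G} {a1 a2 : El DA} (ss : s * s = 1) (sz : s * 𝐳 * s⁻¹ = φ a1)
    (sc : s * φ a2 * s⁻¹ = φ a2) (zs : IsConj 𝐳 s)
    (hC : ∀ a, a * a1 = a1 * a → a * a2 = a2 * a → mt * mx * a * (mt * mx)⁻¹ = a⁻¹ →
      a = 1 ∨ a = mz ∨ a = a2 * a1 ∨ a = mz * (a2 * a1))
    (H : mt * mx * a1 * (mt * mx)⁻¹ = a2 ∧ mt * mx * a2 * (mt * mx)⁻¹ = a1 ∧ a1 ≠ mz⁻¹ ∧ a2 * mz ≠ (a2 * a1)⁻¹ ∧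
      mz * a2 * a1 * (mz * (a2 * a1)) = 1 := by decide +kernel) :
    φ (mt * mx) * s * (φ (mt * mx) * s * (φ (mt * mx) * s)) = 1 := by
  obtain ⟨m1, m2, m3, m4, m5⟩ := H
  have sa := back ss sz
  have rr : φ (mt * mx) * φ (mt * mx) = 1 := mdl h.inj
  have pp : 𝐳 * φ (mt * mx) * (𝐳 * φ (mt * mx)) = 1 := mdl h.inj
  have pk : IsConj (φ A8R.mk) (𝐳 * φ (mt * mx)) := by
    obtain ⟨t, e⟩ : ∃ t : El DA, t * A8R.mk * t⁻¹ = mz * (mt * mx) := by decide +kernel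
    rw [← map_mul, ← e]; exact CM.cj t _
  have e1 : φ (mt * mx) * s * 𝐳 * (φ (mt * mx) * s)⁻¹ = φ a2 := cj_cj sz (by rw [← m1]; simp only [map_mul, map_inv])
  have e2 : φ (mt * mx) * s * φ a2 * (φ (mt * mx) * s)⁻¹ = φ a1 :=
    cj_cj sc (by rw [← m2]; simp only [map_mul, map_inv])
  have e3 : φ (mt * mx) * s * φ a1 * (φ (mt * mx) * s)⁻¹ = 𝐳 := cj_cj sa (cj_fix (h.comm _))
  obtain ⟨a, ha⟩ := (h.cent _).1 (comm_of_cj (cj_cj (cj_cj e1 e2) e3))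
  have si := inv_eq_of_mul_eq_one_right ss
  have ri := inv_eq_of_mul_eq_one_right rr
  have i1 : s * φ a * s⁻¹ = φ a⁻¹ := by
    rw [map_inv, ha]; simp only [mul_inv_rev, si, ri, mul_assoc, ss, mul_one]
  rcases hC a (h.inj (by rw [map_mul, map_mul, ha]; exact comm_of_cj (cj_cj (cj_cj e3 e1) e2)))
    (h.inj (by rw [map_mul, map_mul, ha]; exact comm_of_cj (cj_cj (cj_cj e2 e3) e1))) (h.inj (by
      rw [map_mul, map_mul φ _ a, map_inv, map_inv, ha]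
      simp only [mul_inv_rev, si, ri, mul_assoc, ← mul_assoc (φ (mt * mx)) (φ (mt * mx)), rr, one_mul])) with
    rfl | rfl | rfl | rfl
  · rw [← ha, map_one]
  · exact absurd (h.inj (sz.symm.trans i1)) m3
  · rw [map_mul, cj_mul sc sa, ← map_mul] at i1
    exact absurd (h.inj i1) m4
  refine absurd (((zs.trans (cj_of (𝐳 * φ (mt * mx) * s) ?_).symm).trans pk.symm).trans h.wk.symm) h.nw
  have e4 := congrArg φ m5
  rw [map_mul, ha, map_mul, map_mul, ← cj_cj e1 e2, ← e1, map_one] at e4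
  generalize φ (mt * mx) = r at *
  rw [mul_inv_rev, si, inv_eq_of_mul_eq_one_right pp]
  calc _ = 𝐳 * (r * s * 𝐳 * (r * s)⁻¹) * (r * s * (r * s) * 𝐳 * (r * s * (r * s))⁻¹) * (r * s * (r * s * (r * s))) * s⁻¹ := by
        simp only [mul_inv_rev, mul_assoc, inv_mul_cancel_left, mul_inv_cancel, mul_one]
    _ = _ := by rw [e4, one_mul, si]

theorem zb (h : AD φ f g) : IsConj 𝐳 𝐛 := cj_of g h.gz

theorem zv (h : AD φ f g) : IsConj 𝐳 𝐯 := cj_of f h.fz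

theorem zt (h : AD φ f g) : IsConj 𝐳 𝐭 := h.zb.trans (cj_of f h.fb)

theorem br1 (h : AD φ f g) : φ (mt * mx) * (𝐮 * f⁻¹) * (φ (mt * mx) * (𝐮 * f⁻¹) * (φ (mt * mx) * (𝐮 * f⁻¹))) = 1 := by
  obtain ⟨e1, e2⟩ := inv3 (mdl h.inj) h.uf h.f3
  obtain ⟨t, e⟩ : ∃ t : El DA, t * mb * t⁻¹ = mu := by decide +kernel
  exact h.braid e1 (cj_cj (cj_rev (h.fa (y := mv * mz))) (mdl h.inj)) (cj_cj (cj_rev h.fc) (mdl h.inj))
    ((h.zb.trans (e ▸ CM.cj t mb)).trans (cj_of _ e2)) f_C1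

theorem br2 (h : AD φ f g) : φ (mt * mx) * (𝐜 * g⁻¹) * (φ (mt * mx) * (𝐜 * g⁻¹) * (φ (mt * mx) * (𝐜 * g⁻¹))) = 1 := by
  obtain ⟨e1, e2⟩ := inv3 (mdl h.inj) h.cg h.g3
  obtain ⟨t, e⟩ : ∃ t : El DA, t * mv * t⁻¹ = mc := by decide +kernel
  exact h.braid e1 (cj_cj (cj_rev (h.ga (y := mb * mz))) (mdl h.inj)) (cj_cj (cj_rev h.gu) (mdl h.inj))
    ((h.zv.trans (e ▸ CM.cj t mv)).trans (cj_of _ e2)) f_C2

end AD

/-- the letters -/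
noncomputable def xs (φ : El DA →* G) (f g d : G) (n : ℕ) : G :=
  [φ mp, (φ mp)⁻¹, φ mq, (φ mq)⁻¹, 𝐱, 𝐱⁻¹, 𝐭, f, f⁻¹, g, g⁻¹, d].getD n 1

theorem xs_l (φ : El DA →* G) (f g d : G) {i : ℕ} (hi : i < 7) : xs φ f g d i = φ (El.l DA i) := by
  obtain ⟨l0, l1, l2, l3, l4, l5, l6, -⟩ := a_l
  interval_cases i <;> simp only [l0, l1, l2, l3, l4, l5, l6, map_inv] <;> rfl

theorem AD.sat (h : AD φ f g) (fg : f * g * f⁻¹ = g) (d : G) : Sat (xs φ f g d) (RDA ++ R8) := by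
  refine ((El.sat_l.map φ).congr fun w hw i hi =>
    (xs_l φ f g d ((by decide +kernel : ∀ w ∈ RDA, ∀ i ∈ w, i < 7) w hw i hi)).symm).append fun w hw => ?_
  have eu : 𝐱⁻¹ * (φ mq * (φ mp * 𝐱)) = 𝐮 := mdl h.inj
  have ec : 𝐱 * (φ mq * (𝐱⁻¹ * φ mp)) = 𝐜 := mdl h.inj
  have eb : φ mq * φ mp = 𝐛 := mdl h.inj
  have ez : φ mp * φ mp = 𝐳 := mdl h.inj
  have b1 := h.br1
  have b2 := h.br2
  have uf := h.uf
  have cg := h.cg
  have fc : f * 𝐜 * f⁻¹ * 𝐜 = 1 := by rw [h.fc]; exact mdl h.inj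
  have fb : f * 𝐛 * f⁻¹ * 𝐭 = 1 := by rw [h.fb]; exact mdl h.inj
  have gz : g * 𝐳 * g⁻¹ * 𝐛 = 1 := by rw [h.gz]; exact mdl h.inj
  rw [eq_inv_iff_mul_eq_one] at uf cg
  rw [← mul_inv_eq_one] at fg
  rw [map_mul] at b1 b2
  rw [← eu] at b1 uf
  rw [← ec] at b2 cg fc
  rw [← eb] at fb gz
  rw [← ez] at gz
  simp only [mul_assoc] at b1 b2 uf cg fc fb gz fg
  simp only [R8, List.mem_cons, List.not_mem_nil, or_false] at hw
  rcases hw with rfl | rfl | rfl | rfl | rfl | rfl | rfl | rfl | rfl | rfl | rfl | rfl <;>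
    simp only [ev_cons, ev_nil, xs, List.getD_cons_succ, List.getD_cons_zero, mul_one]
  exacts [mul_inv_cancel _, inv_mul_cancel _, mul_inv_cancel _, inv_mul_cancel _, uf, fc, fb, cg, gz, fg, b1, b2]

end Cfsg.Agent.A8R
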