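import Cfsg.Agent.A8R.Def

set_option autoImplicit false

namespace Cfsg.Agent.A8R
open Subgroup Equiv Equiv.Perm

universe u

namespace SylX

/-- a product of two transpositions -/
def dt (a b c d : Fin 8) (h1 : a ≠ b := by decide) (h2 : c ≠ d := by decide) : A8 :=
  ⟨swap a b * swap c d, by simp [mem_alternatingGroup, h1, h2]⟩

def g5 : A8 := dt 0 1 4 5
def g6 : A8 := dt 0 4 1 5 * dt 2 6 3 7

def gn : Fin 6 → A8 := ![u1, u2, v1, v2, g5, g6]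

def pw (b : Bool) (x : A8) : A8 := cond b x 1

def w (n : Fin 64) : A8 :=
  pw (n.1.testBit 0) u1 * pw (n.1.testBit 1) u2 * pw (n.1.testBit 2) v1 * pw (n.1.testBit 3) v2 *
    pw (n.1.testBit 4) g5 * pw (n.1.testBit 5) g6

def nxL : List (List ℕ) :=
  [[1, 0, 3, 2, 5, 4, 7, 6, 9, 8, 11, 10, 13, 12, 15, 14, 17, 16, 19, 18, 21, 20, 23, 22, 25, 24, 27, 26, 29, 28, 31, 30, 36, 37, 38, 39, 32, 33, 34, 35, 44, 45, 46, 47, 40, 41, 42, 43, 52, 53, 54, 55, 48, 49, 50, 51, 60, 61, 62, 63, 56, 57, 58, 59],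
   [2, 3, 0, 1, 6, 7, 4, 5, 10, 11, 8, 9, 14, 15, 12, 13, 19, 18, 17, 16, 23, 22, 21, 20, 27, 26, 25, 24, 31, 30, 29, 28, 40, 41, 42, 43, 44, 45, 46, 47, 32, 33, 34, 35, 36, 37, 38, 39, 60, 61, 62, 63, 56, 57, 58, 59, 52, 53, 54, 55, 48, 49, 50, 51],
   [4, 5, 6, 7, 0, 1, 2, 3, 12, 13, 14, 15, 8, 9, 10, 11, 20, 21, 22, 23, 16, 17, 18, 19, 28, 29, 30, 31, 24, 25, 26, 27, 33, 32, 35, 34, 37, 36, 39, 38, 41, 40, 43, 42, 45, 44, 47, 46, 49, 48, 51, 50, 53, 52, 55, 54, 57, 56, 59, 58, 61, 60, 63, 62],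
   [8, 9, 10, 11, 12, 13, 14, 15, 0, 1, 2, 3, 4, 5, 6, 7, 28, 29, 30, 31, 24, 25, 26, 27, 20, 21, 22, 23, 16, 17, 18, 19, 34, 35, 32, 33, 38, 39, 36, 37, 42, 43, 40, 41, 46, 47, 44, 45, 51, 50, 49, 48, 55, 54, 53, 52, 59, 58, 57, 56, 63, 62, 61, 60],
   [16, 17, 18, 19, 20, 21, 22, 23, 24, 25, 26, 27, 28, 29, 30, 31, 0, 1, 2, 3, 4, 5, 6, 7, 8, 9, 10, 11, 12, 13, 14, 15, 48, 49, 50, 51, 52, 53, 54, 55, 56, 57, 58, 59, 60, 61, 62, 63, 32, 33, 34, 35, 36, 37, 38, 39, 40, 41, 42, 43, 44, 45, 46, 47],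
   [32, 33, 34, 35, 36, 37, 38, 39, 40, 41, 42, 43, 44, 45, 46, 47, 48, 49, 50, 51, 52, 53, 54, 55, 56, 57, 58, 59, 60, 61, 62, 63, 0, 1, 2, 3, 4, 5, 6, 7, 8, 9, 10, 11, 12, 13, 14, 15, 16, 17, 18, 19, 20, 21, 22, 23, 24, 25, 26, 27, 28, 29, 30, 31]]

def nx (i : Fin 6) (n : Fin 64) : Fin 64 := Fin.ofNat 64 ((nxL.getD i.1 []).getD n.1 0)

def cjL : List A8 :=
  [1,
   1,
   dt 0 1 0 2,
   dt 0 1 0 3,
   dt 0 4 1 5 * dt 2 6 3 7,
   1,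
   dt 0 1 0 2,
   dt 0 1 0 3,
   dt 0 4 1 6 * dt 2 5 3 7,
   dt 0 1 4 7,
   dt 0 3 4 7,
   dt 0 2 4 7,
   dt 0 4 1 7 * dt 2 5 3 6,
   dt 0 1 4 6,
   dt 0 3 4 6,
   dt 0 2 4 6,
   dt 2 4 3 5,
   dt 0 4 1 5,
   1,
   1,
   dt 2 6 3 7,
   dt 0 6 1 7,
   1,
   1,
   1,
   1,
   1,
   1,
   1,
   1,
   1,
   1,
   dt 0 5 2 7,
   1,
   1,
   1,
   1,
   dt 0 4 2 6,
   1,
   1,
   1,
   1,
   dt 0 7 2 5,
   1,
   1,
   1,
   1,
   dt 0 6 2 4,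
   dt 0 4 2 7,
   1,
   1,
   1,
   1,
   dt 0 5 2 6,
   1,
   1,
   1,
   1,
   1,
   dt 0 6 2 5,
   1,
   1,
   dt 0 7 2 4,
   1]

def cj (n : Fin 64) : A8 := cjL.getD n.1 1

def F (x : A8) : Prop := ∃ i : Fin 8, x.1 i = i

instance : DecidablePred F := fun x => inferInstanceAs (Decidable (∃ i : Fin 8, x.1 i = i))

theorem c1 : ∀ i n, w n * gn i = w (nx i n) := by decide +kernel
theorem c2 : ∀ i, gn i * gn i = 1 := by decide +kernel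
theorem c3 : ∀ m n, w m = w n → m = n := by decide +kernel
theorem c4 : ∀ n, w n * w n = 1 → w n ≠ 1 →
    (F (w n) ∧ cj n * u1 = w n * cj n) ∨ (¬ F (w n) ∧ cj n * (u1 * v1) = w n * cj n) := by
  decide +kernel
theorem c5 : ∀ n, F (w n * w n) → w n * w n = 1 ∨ w n * w n = u1 ∨ w n * w n = v1 := by
  decide +kernel
theorem c6 : ∀ n, w n * w n = 1 → F (w n) →
    (¬ F (w n * u1) → w n = v1 ∨ w n = v2 ∨ w n = v1 * v2) ∧
    (¬ F (w n * v1) → w n = u1 ∨ w n = u2 ∨ w n = u1 * u2) := by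
  decide +kernel
theorem c7 : w 0 = 1 ∧ w 24 * w 24 = v1 ∧ w 18 * w 18 = u1 ∧ v1 ≠ 1 ∧ u1 ≠ 1 ∧ v2 ≠ 1 ∧
    v1 ≠ u1 ∧ v2 ≠ v1 ∧ v2 * u1 ≠ 1 ∧ v1 * v1 = 1 ∧ u1 * u1 = 1 ∧ v2 * v2 = 1 ∧
    v2 * u1 * (v2 * u1) = 1 ∧ F v1 ∧ F u1 ∧ F v2 ∧ ¬ F (v2 * u1) := by decide +kernel
def hh1 : A8 := dt 0 1 4 5
def hh2 : A8 := dt 0 4 1 5 * dt 2 6 3 7
def hh3 : A8 := dt 0 4 1 5 * dt 2 7 3 6
theorem c81 : hh1 * v1 = v1 * hh1 ∧ hh1 * v2 = v1 * v2 * hh1 := by decide +kernel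
theorem c82 : hh2 * v1 = u1 * hh2 ∧ hh2 * v2 = u2 * hh2 := by decide +kernel
theorem c83 : hh3 * v1 = u1 * hh3 ∧ hh3 * v2 = u1 * u2 * hh3 := by decide +kernel

def T : Subgroup A8 := closure (Set.range gn)

theorem gT (i : Fin 6) : gn i ∈ T := subset_closure ⟨i, rfl⟩

theorem pT {b : Bool} {x : A8} (h : x ∈ T) : pw b x ∈ T := by
  cases b
  · exact one_mem _
  · exact h

theorem wT (n : Fin 64) : w n ∈ T :=
  mul_mem (mul_mem (mul_mem (mul_mem (mul_mem (pT (gT 0)) (pT (gT 1))) (pT (gT 2))) (pT (gT 3)))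
    (pT (gT 4))) (pT (gT 5))

theorem memT {x : A8} (h : x ∈ T) : ∃ n, w n = x := by
  induction h using closure_induction_right with
  | one => exact ⟨0, c7.1⟩
  | mul_right x _ y hy ih =>
    obtain ⟨n, rfl⟩ := ih
    obtain ⟨i, rfl⟩ := hy
    exact ⟨_, (c1 i n).symm⟩
  | mul_inv_cancel x _ y hy ih =>
    obtain ⟨n, rfl⟩ := ih
    obtain ⟨i, rfl⟩ := hy
    rw [inv_eq_of_mul_eq_one_right (c2 i)]
    exact ⟨_, (c1 i n).symm⟩

theorem cardT : Nat.card T = 64 := by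
  have : Function.Bijective (fun n : Fin 64 => (⟨w n, wT n⟩ : T)) :=
    ⟨fun m n e => c3 m n (congrArg Subtype.val e), fun x => by
      obtain ⟨n, hn⟩ := memT x.2
      exact ⟨n, Subtype.ext hn⟩⟩
  rw [← Nat.card_eq_of_bijective _ this]; simp

variable {G : Type u} [Group G]

theorem cl_iff (E : Emb G) (hn : ¬ IsConj (E.φ (u1 * v1)) (E.φ u1)) {x : A8} (hx : x ∈ T)
    (h2 : x * x = 1) (h1 : x ≠ 1) : IsConj (E.φ u1) (E.φ x) ↔ F x := by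
  obtain ⟨n, rfl⟩ := memT hx
  have k : ∀ {a b c : A8}, c * a = b * c → IsConj (E.φ a) (E.φ b) := fun {a b c} e =>
    isConj_iff.2 ⟨E.φ c, by rw [← map_mul, e, map_mul, mul_inv_cancel_right]⟩
  rcases c4 n h2 h1 with ⟨f, e⟩ | ⟨f, e⟩
  · exact iff_of_true (k e) f
  · exact iff_of_false (fun h => hn ((k e).trans h.symm)) f

theorem nrm [Finite G] (c : CENU.{u}) (E : Emb G) (hn : ¬ IsConj (E.φ (u1 * v1)) (E.φ u1)) {g : G}
    (hg : ∀ x ∈ T, ∃ y ∈ T, E.φ y = g * E.φ x * g⁻¹) : g ∈ E.φ.range := by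
  choose! α hT hα using hg
  obtain ⟨-, y1, y2, n1, n2, n3, n4, n5, n6, s1, s2, s3, s4, f1, f2, f3, f4⟩ := c7
  have hm : ∀ x ∈ T, ∀ y ∈ T, α (x * y) = α x * α y := fun x hx y hy => E.φi (by
    rw [map_mul, hα _ hx, hα _ hy, hα _ (mul_mem hx hy), map_mul]; group)
  have hi : ∀ x ∈ T, ∀ y ∈ T, α x = α y → x = y := fun x hx y hy e => E.φi (by
    have := congrArg E.φ e
    rw [hα _ hx, hα _ hy] at this
    simpa using this)
  have h1 : α 1 = 1 := E.φi (by rw [hα _ (one_mem _)]; simp)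
  have hne : ∀ x ∈ T, x ≠ 1 → α x ≠ 1 := fun x hx e e' => e (hi _ hx _ (one_mem _) (e'.trans h1.symm))
  have hsq : ∀ x ∈ T, x * x = 1 → α x * α x = 1 := fun x hx e => by rw [← hm _ hx _ hx, e, h1]
  have hF : ∀ x ∈ T, x * x = 1 → x ≠ 1 → (F (α x) ↔ F x) := fun x hx e2 e1 => by
    rw [← cl_iff E hn (hT x hx) (hsq x hx e2) (hne x hx e1), ← cl_iff E hn hx e2 e1, hα x hx]
    have : IsConj (E.φ x) (g * E.φ x * g⁻¹) := isConj_iff.2 ⟨g, rfl⟩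
    exact ⟨fun h => h.trans this.symm, fun h => h.trans this⟩
  have mu : u1 ∈ T := gT 0
  have mv : v1 ∈ T := gT 2
  have mv2 : v2 ∈ T := gT 3
  have sq : ∀ n, ∀ x ∈ T, w n * w n = x → x * x = 1 → x ≠ 1 → F x → α x = u1 ∨ α x = v1 :=
    fun n x hx e e2 e1 f => by
      obtain ⟨m, hm'⟩ := memT (hT _ (wT n))
      have e3 : α x = w m * w m := by rw [← e, hm _ (wT n) _ (wT n), hm']
      have := c5 m (e3 ▸ (hF x hx e2 e1).2 f)
      rw [← e3] at this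
      exact this.resolve_left (hne x hx e1)
  have a1 := sq _ v1 mv y1 s1 n1 f1
  have a2 := sq _ u1 mu y2 s2 n2 f2
  have a3 : α v1 ≠ α u1 := fun e => n4 (hi _ mv _ mu e)
  have a4 : α v2 ≠ α v1 := fun e => n5 (hi _ mv2 _ mv e)
  have a5 : ¬ F (α v2 * α u1) := by
    rw [← hm _ mv2 _ mu, hF _ (mul_mem mv2 mu) s4 n6]; exact f4
  obtain ⟨m, hm'⟩ := memT (hT _ mv2)
  have a6 := c6 m (by rw [hm']; exact hsq _ mv2 s3) (by rw [hm']; exact (hF _ mv2 s3 n3).2 f3)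
  rw [hm'] at a6
  have key : ∃ h : A8, h * v1 = α v1 * h ∧ h * v2 = α v2 * h := by
    rcases a1 with a1 | a1 <;> rcases a2 with a2 | a2
    · exact absurd (a1.trans a2.symm) a3
    · rw [a2] at a5
      rcases a6.2 a5 with e | e | e
      · exact absurd (e.trans a1.symm) a4
      · rw [a1, e]; exact ⟨_, c82⟩
      · rw [a1, e]; exact ⟨_, c83⟩
    · rw [a2] at a5
      rcases a6.1 a5 with e | e | e
      · exact absurd (e.trans a1.symm) a4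
      · rw [a1, e]; exact ⟨1, by rw [one_mul, mul_one], by rw [one_mul, mul_one]⟩
      · rw [a1, e]; exact ⟨_, c81⟩
    · exact absurd (a1.trans a2.symm) a3
  obtain ⟨h, e1, e2⟩ := key
  have k : ∀ x ∈ T, h * x = α x * h → E.φ x * ((E.φ h)⁻¹ * g) = (E.φ h)⁻¹ * g * E.φ x :=
    fun x hx e => by
      have := congrArg E.φ e
      rw [map_mul, map_mul, hα x hx] at this
      calc E.φ x * ((E.φ h)⁻¹ * g) = (E.φ h)⁻¹ * (E.φ h * E.φ x) * ((E.φ h)⁻¹ * g) := by group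
        _ = _ := by rw [this]; group
  have : (E.φ h)⁻¹ * g ∈ E.φ.range := c G E 1 (by
    rw [mem_centralizer_iff]
    rintro z (rfl | rfl)
    · simpa using k v1 mv e1
    · simpa using k v2 mv2 e2)
  simpa using mul_mem (⟨h, rfl⟩ : E.φ h ∈ E.φ.range) this

end SylX

open SylX in
theorem syl (c : CENU.{u}) (n : NCJ.{u}) : SYL.{u} := by
  intro G _ _ E h
  haveI : Fact (Nat.Prime 2) := ⟨Nat.prime_two⟩
  have hc : Nat.card (T.map E.φ) = 2 ^ 6 := by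
    rw [Subgroup.card_map_of_injective E.φi, cardT]; norm_num
  have h1 := Sylow.prime_pow_dvd_card_normalizer (p := 2) (n := 6) (H := T.map E.φ)
    (by simpa using h) hc
  have h2 : normalizer ((T.map E.φ : Subgroup G) : Set G) ≤ E.φ.range := fun g hg =>
    nrm c E (n G E).1 fun x hx => by
      obtain ⟨y, hy, e⟩ := (mem_normalizer_iff.1 hg (E.φ x)).1 ⟨x, hx, rfl⟩
      exact ⟨y, hy, e⟩
  have h3 := h1.trans (Subgroup.card_dvd_of_le h2)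
  rw [MonoidHom.range_eq_map, Subgroup.card_map_of_injective E.φi, Subgroup.card_top] at h3
  have h4 := two_mul_nat_card_alternatingGroup (α := Fin 8)
  rw [Nat.card_perm, Nat.card_fin] at h4
  have h5 : Nat.card A8 = 20160 := by
    have : Nat.factorial 8 = 40320 := by decide
    change 2 * Nat.card A8 = _ at h4
    omega
  rw [h5] at h3
  norm_num at h3

end Cfsg.Agent.A8R
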